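import Groth.Agent.Pi1.H416.PrincDesc
import Groth.Agent.Pi1.H383.PrincBC
import Groth.Agent.Pi1.H383.ActDesc
import Groth.Agent.Pi1A.Agree

/-!
# The locus where a family of endomorphisms of a finite étale cover is a principal action

`P` a finite étale cover of `Y`, `β g : P ⟶ P` (`g : G`, `G` a finite group).
`exists_bad`: there is a clopen subset `K` of `Y` such that for `t : T ⟶ Y`: the pullbacks of the `β g` to `T` are
an action making `P ×_Y T` a principal `G`-cover of `T` iff `t` misses `K`.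
-/

set_option autoImplicit false
universe u v

open CategoryTheory CategoryTheory.Limits AlgebraicGeometry

namespace K557.PrinLoc

open Groth.Agent.Pi1A Groth.Agent.Pi1A.FEtAffine Groth.Agent.Pi1.H416.PrincDesc Groth.Agent.Pi1.H383.ActDesc

section Basic

variable {Y T : Scheme.{u}} (t : T ⟶ Y)

/-- Images of clopen subsets. -/
theorem isClopen_image {Z Y : Scheme.{u}} (z : Z ⟶ Y) [IsFinite z] [Etale z] {W : Set Z} (hW : IsClopen W) :
    IsClopen (z '' W) :=
  ⟨z.isClosedMap _ hW.isClosed, z.isOpenMap _ hW.isOpen⟩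

/-- The locus where two maps of finite étale covers differ. -/
theorem exists_diff (P Q : FEt.Cat Y) (a b : P ⟶ Q) :
    ∃ K : Set Y, IsClopen K ∧ ∀ {T : Scheme.{u}} (t : T ⟶ Y),
      (FEt.restrict t).map a = (FEt.restrict t).map b ↔ ∀ x, t x ∉ K := by
  have hQ1 : IsFinite Q.hom := Q.prop.1
  have hQ2 : Etale Q.hom := Q.prop.2
  have hP1 : IsFinite P.hom := P.prop.1
  have hP2 : Etale P.hom := P.prop.2
  obtain ⟨U, hU, hab, hUt⟩ := Agree.exists_agree Q.hom a.left b.left (by rw [hom_w, hom_w])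
  refine ⟨P.hom '' (U : Set P.left)ᶜ, isClopen_image P.hom ⟨U.isOpen.isClosed_compl, hU.isOpen_compl⟩, ?_⟩
  intro T t
  have hr : Set.range (proj t P) = P.hom ⁻¹' Set.range t := Agree.range_proj t P
  constructor
  · intro h x hx
    obtain ⟨p, hp, hpx⟩ := hx
    have h1 : proj t P ≫ a.left = proj t P ≫ b.left := by
      rw [← map_left_proj, ← map_left_proj, h]
    apply hp
    apply hUt _ h1
    rw [hr]
    exact ⟨x, hpx.symm⟩
  · intro h
    apply hom_ext_restrict
    rw [map_left_proj, map_left_proj]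
    have hsub : Set.range (proj t P) ⊆ Set.range U.ι := by
      rw [hr, Scheme.Opens.range_ι]
      intro p hp
      by_contra hpU
      obtain ⟨x, hx⟩ := hp
      exact h x ⟨p, hpU, hx.symm⟩
    rw [← IsOpenImmersion.lift_fac U.ι (proj t P) hsub, Category.assoc, Category.assoc, hab]

/-- Points of the fibres of a base change. -/
theorem fiber_restrict (P : FEt.Cat Y) {Ω : Type u} [Field Ω] (ξ : Spec (CommRingCat.of Ω) ⟶ T)
    (s : FEt.fiberObj ξ ((FEt.restrict t).obj P)) : (s.1 ≫ proj t P) ≫ P.hom = ξ ≫ t := by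
  rw [Category.assoc, (isPullback t P).w, ← Category.assoc, s.2]

/-- `SGA1t.IsPrincipal` for a base change in terms of points. -/
theorem isPrincipal_iff (G : Type v) [Group G] (P : FEt.Cat Y) (β : G → (P ⟶ P))
    (ρ : G →* Aut ((FEt.restrict t).obj P)) (hρ : ∀ g, (ρ g).hom = (FEt.restrict t).map (β g)) :
    SGA1t.IsPrincipal G ((FEt.restrict t).obj P) ρ ↔
      ∀ (Ω : Type u) [Field Ω] [IsAlgClosed Ω] (ξ : Spec (CommRingCat.of Ω) ⟶ T),
        Nonempty (FEt.fiberObj (ξ ≫ t) P) ∧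
          ∀ s s' : FEt.fiberObj (ξ ≫ t) P, ∃! g, s.1 ≫ (β g).left = s'.1 := by
  have hP2 : Etale P.hom := P.prop.2
  have key : ∀ {Ω : Type u} [Field Ω] (ξ : Spec (CommRingCat.of Ω) ⟶ T)
      (s s' : FEt.fiberObj ξ ((FEt.restrict t).obj P)) (g : G),
      (FEt.fiber ξ).map (ρ g).hom s = s' ↔ (s.1 ≫ proj t P) ≫ (β g).left = s'.1 ≫ proj t P := by
    intro Ω _ ξ s s' g
    have e1 : (s.1 ≫ ((FEt.restrict t).map (β g)).left) ≫ proj t P = (s.1 ≫ proj t P) ≫ (β g).left := by
      rw [Category.assoc, map_left_proj, Category.assoc]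
    rw [hρ]
    constructor
    · intro h1
      have h2 : s.1 ≫ ((FEt.restrict t).map (β g)).left = s'.1 := congrArg Subtype.val h1
      rw [← e1, h2]
    · intro h1
      apply Subtype.ext
      change s.1 ≫ ((FEt.restrict t).map (β g)).left = s'.1
      apply (isPullback t P).hom_ext
      · rw [e1, h1]
      · rw [Category.assoc, hom_w, s.2, s'.2]
  constructor
  · intro h Ω _ _ ξ
    constructor
    · obtain ⟨y, hy⟩ := h.1 (ξ default)
      have h1 : Etale ((FEt.restrict t).obj P).hom := ((FEt.restrict t).obj P).prop.2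
      obtain ⟨s, hs, -⟩ := Scheme.exists_fac_of_etale_of_isSepClosed ((FEt.restrict t).obj P).hom ξ y hy
      exact ⟨⟨s ≫ proj t P, fiber_restrict t P ξ ⟨s, hs⟩⟩⟩
    · intro s s'
      let S : FEt.fiberObj ξ ((FEt.restrict t).obj P) :=
        ⟨(isPullback t P).lift s.1 ξ s.2, (isPullback t P).lift_snd _ _ _⟩
      let S' : FEt.fiberObj ξ ((FEt.restrict t).obj P) :=
        ⟨(isPullback t P).lift s'.1 ξ s'.2, (isPullback t P).lift_snd _ _ _⟩
      have hS : S.1 ≫ proj t P = s.1 := (isPullback t P).lift_fst _ _ _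
      have hS' : S'.1 ≫ proj t P = s'.1 := (isPullback t P).lift_fst _ _ _
      obtain ⟨g, hg, hu⟩ := h.2 Ω ξ S S'
      refine ⟨g, ?_, fun g' hg' => hu g' ?_⟩
      · have := (key ξ S S' g).1 hg
        rwa [hS, hS'] at this
      · refine (key ξ S S' g').2 ?_
        rwa [hS, hS']
  · intro h
    refine ⟨fun x => ?_, fun Ω _ _ ξ s s' => ?_⟩
    · obtain ⟨Ω, _, _, ξ, hξ⟩ := exists_geomPt T x
      obtain ⟨⟨s⟩, -⟩ := h Ω ξ
      refine ⟨((isPullback t P).lift s.1 ξ s.2) default, ?_⟩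
      rw [← Scheme.Hom.comp_apply, (isPullback t P).lift_snd, hξ]
    · obtain ⟨g, hg, hu⟩ := (h Ω ξ).2 ⟨_, fiber_restrict t P ξ s⟩ ⟨_, fiber_restrict t P ξ s'⟩
      exact ⟨g, (key ξ s s' g).2 hg, fun g' hg' => hu g' ((key ξ s s' g').1 hg')⟩

end Basic

section Bad

variable {Y : Scheme.{u}}

/-- The clopen locus of failure of simple transitivity. -/
theorem exists_bad_points (G : Type v) [Group G] [Finite G] (P : FEt.Cat Y) (β : G → (P ⟶ P)) :
    ∃ K : Set Y, IsClopen K ∧ ∀ (Ω : Type u) [Field Ω] [IsAlgClosed Ω] (ξ : Spec (CommRingCat.of Ω) ⟶ Y),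
      (Nonempty (FEt.fiberObj ξ P) ∧ ∀ s s' : FEt.fiberObj ξ P, ∃! g, s.1 ≫ (β g).left = s'.1) ↔
        ξ default ∉ K := by
  let π : P.left ⟶ Y := P.hom
  have hπ1 : IsFinite π := P.prop.1
  have hπ2 : Etale π := P.prop.2
  let a : G → (P.left ⟶ P.left) := fun c ↦ (β c).left
  have ha : ∀ c, a c ≫ π = π := fun c ↦ hom_w (β c)
  let m : pullback π π ⟶ Y := pullback.fst π π ≫ π
  have hm1 : IsFinite m := inferInstance
  have hm2 : Etale m := inferInstance
  let Γ : G → Set ↥(pullback π π) := fun c => Set.range (graph π (a c) (ha c))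
  have hΓ : ∀ c, IsClopen (Γ c) := fun c => isClopen_range_graph π (a c) (ha c)
  let K : Set Y := (Set.range π)ᶜ ∪ (m '' (⋃ c, Γ c)ᶜ ∪
    ⋃ c : G, ⋃ c' : G, {y | c ≠ c' ∧ y ∈ m '' (Γ c ∩ Γ c')})
  have hK : IsClopen K := by
    refine IsClopen.union ?_ (IsClopen.union ?_ ?_)
    · exact (show IsClopen (Set.range π) from ⟨π.isClosedMap.isClosed_range, π.isOpenMap.isOpen_range⟩).compl
    · exact isClopen_image m (isClopen_iUnion_of_finite hΓ).compl
    · refine isClopen_iUnion_of_finite fun c => isClopen_iUnion_of_finite fun c' => ?_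
      by_cases h : c = c'
      · have : {y | c ≠ c' ∧ y ∈ m '' (Γ c ∩ Γ c')} = ∅ := by
          ext y
          simp [h]
        rw [this]
        exact isClopen_empty
      · have : {y | c ≠ c' ∧ y ∈ m '' (Γ c ∩ Γ c')} = m '' (Γ c ∩ Γ c') := by
          ext y
          simp only [Set.mem_ofPred_eq, ne_eq, h, not_false_eq_true, true_and]
        rw [this]
        exact isClopen_image m ((hΓ c).inter (hΓ c'))
  refine ⟨K, hK, fun Ω _ _ ξ => ?_⟩
  -- points of `P ×_Y P` over `ξ`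
  have hlift : ∀ z, m z = ξ default → ∃ s s' : FEt.fiberObj ξ P,
      pullback.lift s.1 s'.1 (s.2.trans s'.2.symm) default = z := by
    intro z hz
    obtain ⟨l, hl, hlz⟩ := Scheme.exists_fac_of_etale_of_isSepClosed m ξ z hz
    have e1 : (l ≫ pullback.fst π π) ≫ π = ξ := by rw [← hl, Category.assoc]
    have e2 : (l ≫ pullback.snd π π) ≫ π = ξ := by
      rw [← e1, Category.assoc, Category.assoc, pullback.condition]
    refine ⟨⟨_, e1⟩, ⟨_, e2⟩, ?_⟩
    have e3 : l = pullback.lift (l ≫ pullback.fst π π) (l ≫ pullback.snd π π) (e1.trans e2.symm) := by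
      apply pullback.hom_ext
      · rw [pullback.lift_fst]
      · rw [pullback.lift_snd]
    rw [← hlz]
    exact congrArg (fun q : Spec (CommRingCat.of Ω) ⟶ pullback π π => q default) e3.symm
  have hm : ∀ s s' : FEt.fiberObj ξ P,
      m (pullback.lift s.1 s'.1 (s.2.trans s'.2.symm) default) = ξ default := by
    intro s s'
    rw [← Scheme.Hom.comp_apply]
    change (pullback.lift s.1 s'.1 _ ≫ pullback.fst π π ≫ π) default = _
    rw [pullback.lift_fst_assoc]
    exact congrArg (fun q : Spec (CommRingCat.of Ω) ⟶ Y => q default) s.2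
  constructor
  · rintro ⟨⟨s₀⟩, h⟩ (hy | ⟨z, hz, hzy⟩ | hy)
    · apply hy
      refine ⟨s₀.1 default, ?_⟩
      rw [← Scheme.Hom.comp_apply]
      exact congrArg (fun q : Spec (CommRingCat.of Ω) ⟶ Y => q default) s₀.2
    · obtain ⟨s, s', rfl⟩ := hlift z hzy
      obtain ⟨g, hg, -⟩ := h s s'
      exact hz (Set.mem_iUnion.2 ⟨g, (mem_range_graph_iff π (a g) (ha g) _ _ _ default).2 hg⟩)
    · simp only [Set.mem_iUnion, Set.mem_ofPred_eq] at hy
      obtain ⟨c, c', hcc, z, hz, hzy⟩ := hy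
      obtain ⟨s, s', rfl⟩ := hlift z hzy
      exact hcc ((h s s').unique ((mem_range_graph_iff π (a c) (ha c) _ _ _ default).1 hz.1)
        ((mem_range_graph_iff π (a c') (ha c') _ _ _ default).1 hz.2))
  · intro hy
    constructor
    · have h1 : ξ default ∈ Set.range π := by
        by_contra h
        exact hy (Or.inl h)
      obtain ⟨y, hy'⟩ := h1
      obtain ⟨s, hs, -⟩ := Scheme.exists_fac_of_etale_of_isSepClosed π ξ y hy'
      exact ⟨⟨s, hs⟩⟩
    · intro s s'
      have h1 : pullback.lift s.1 s'.1 (s.2.trans s'.2.symm) default ∈ ⋃ c, Γ c := by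
        by_contra h
        exact hy (Or.inr (Or.inl ⟨_, h, hm s s'⟩))
      obtain ⟨g, hg⟩ := Set.mem_iUnion.1 h1
      refine ⟨g, (mem_range_graph_iff π (a g) (ha g) _ _ _ default).1 hg, fun g' hg' => ?_⟩
      by_contra hne
      have hg'' := (mem_range_graph_iff π (a g') (ha g') _ _ (s.2.trans s'.2.symm) default).2 hg'
      refine hy (Or.inr (Or.inr ?_))
      simp only [Set.mem_iUnion, Set.mem_ofPred_eq]
      exact ⟨g', g, hne, _, ⟨hg'', hg⟩, hm s s'⟩

/-- The clopen subset of `Y` over which the `β g` are not a principal action. -/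
theorem exists_bad (G : Type v) [Group G] [Finite G] (P : FEt.Cat Y) (β : G → (P ⟶ P)) :
    ∃ K : Set Y, IsClopen K ∧ ∀ {T : Scheme.{u}} (t : T ⟶ Y),
      (∃ ρ : G →* Aut ((FEt.restrict t).obj P), (∀ g, (ρ g).hom = (FEt.restrict t).map (β g)) ∧
        SGA1t.IsPrincipal G ((FEt.restrict t).obj P) ρ) ↔ ∀ x, t x ∉ K := by
  obtain ⟨K1, hK1, h1⟩ := exists_diff P P (β 1) (𝟙 P)
  choose K2 hK2 h2 using fun p : G × G => exists_diff P P (β (p.1 * p.2)) (β p.2 ≫ β p.1)
  obtain ⟨K3, hK3, h3⟩ := exists_bad_points G P β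
  refine ⟨K1 ∪ ((⋃ p, K2 p) ∪ K3), hK1.union ((isClopen_iUnion_of_finite hK2).union hK3), ?_⟩
  intro T t
  constructor
  · rintro ⟨ρ, hρ, hp⟩ x (hx | hx | hx)
    · refine (h1 t).1 ?_ x hx
      rw [← hρ, map_one]
      exact (CategoryTheory.Functor.map_id _ _).symm
    · obtain ⟨p, hp⟩ := Set.mem_iUnion.1 hx
      refine (h2 p t).1 ?_ x hp
      rw [Functor.map_comp, ← hρ, ← hρ, ← hρ, map_mul]
      rfl
    · obtain ⟨Ω, _, _, ξ, hξ⟩ := exists_geomPt T x
      refine (h3 Ω (ξ ≫ t)).1 ((isPrincipal_iff t G P β ρ hρ).1 hp Ω ξ) ?_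
      rw [Scheme.Hom.comp_apply, hξ]
      exact hx
  · intro h
    have e1 : (FEt.restrict t).map (β 1) = 𝟙 _ := by
      rw [(h1 t).2 fun x hx => h x (Or.inl hx), CategoryTheory.Functor.map_id]
    have e2 : ∀ g g', (FEt.restrict t).map (β (g * g')) =
        (FEt.restrict t).map (β g') ≫ (FEt.restrict t).map (β g) := by
      intro g g'
      rw [← Functor.map_comp]
      exact (h2 (g, g') t).2 fun x hx => h x (Or.inr (Or.inl (Set.mem_iUnion.2 ⟨_, hx⟩)))
    refine ⟨mkAction (fun g => (FEt.restrict t).map (β g)) e1 e2, fun g => rfl, ?_⟩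
    refine (isPrincipal_iff t G P β _ fun g => rfl).2 fun Ω _ _ ξ => (h3 Ω (ξ ≫ t)).2 fun hx => ?_
    rw [Scheme.Hom.comp_apply] at hx
    exact h _ (Or.inr (Or.inr hx))

end Bad

end K557.PrinLoc
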