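import Groth.Agent.EtAcyc.K557.LimAic
import Groth.Agent.S0283
import Groth.Agent.S1964
import Groth.Agent.Etcore.SepClosedRed
import Groth.Agent.Etrest.StrictLocTensor
import Groth.Agent.Etrest.VCBaseChange
import Groth.Agent.Sga4h.SLoc
import Mathlib.FieldTheory.IsAlgClosed.AlgebraicClosure

/-!
# Local asphericity can be tested over the test rings

`asphAt_of_lapAt`: `LApAt n f x` implies `AsphAt n f x` when `S` is locally of finite type over `ℤ`.
-/

set_option autoImplicit false
universe u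

open CategoryTheory CategoryTheory.Limits AlgebraicGeometry IsLocalRing Polynomial Opposite TensorProduct

namespace K557.LimMain

open K168.AsphDef K557.PrinLim K557.LimAic Groth.Agent.Etrest.StrictLoc Groth.Agent.Pi1A.FEtAffine
open Groth.Agent.Pi1.H383.PrincBC Groth.Agent.Etrest.VCBaseChange Groth.Agent.Sga1.UlaSL

section Sec

/-- The trivial cover. -/
noncomputable def triv (Y : Scheme.{u}) : FEt.Cat Y :=
  MorphismProperty.Over.mk ⊤ (𝟙 Y) ⟨inferInstance, inferInstance⟩

/-- Sections of the base change of a cover are induced if the base change is full. -/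
theorem sec_of_full {Y Y' : Scheme.{u}} (g : Y' ⟶ Y) (hg : (FEt.restrict g).Full) (P : FEt.Cat Y)
    (h : Nonempty (SGA1t.Sec ((FEt.restrict g).obj P))) : Nonempty (SGA1t.Sec P) := by
  obtain ⟨s⟩ := h
  let a : (FEt.restrict g).obj (triv Y) ⟶ (FEt.restrict g).obj P :=
    MorphismProperty.Over.homMk (((FEt.restrict g).obj (triv Y)).hom ≫ s.1) (by
      rw [Category.assoc, s.2]
      exact Category.comp_id _) trivial
  obtain ⟨b, -⟩ := hg.map_surjective a
  exact ⟨⟨b.left, hom_w b⟩⟩

/-- `NC n` descends along universal homeomorphisms. -/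
theorem nc_of_uh {n : ℕ} {Y Y' : Scheme.{u}} (g : Y' ⟶ Y) [IsIntegralHom g] [UniversallyInjective g] [Surjective g]
    (h : NC n Y') : NC n Y := by
  intro G _ _ hG P ρ hP
  exact sec_of_full g (Groth.Agent.S0283.result g).1 P (h G hG _ _ (isPrincipal_bc g G P ρ hP))

end Sec

section AlgClosure

/-- Reduction to algebraically closed fields. -/
theorem nc_of_algClosure {n : ℕ} {A B : Type u} [CommRing A] [CommRing B] (β : A →+* B) (Ω : Type u) [Field Ω]
    [IsSepClosed Ω] (ξ : A →+* Ω)
    (h : NC n (pullback (spm β) (spm ((algebraMap Ω (AlgebraicClosure Ω)).comp ξ)))) :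
    NC n (pullback (spm β) (spm ξ)) := by
  obtain ⟨g, hsq⟩ : ∃ g : pullback (spm β) (spm ((algebraMap Ω (AlgebraicClosure Ω)).comp ξ)) ⟶
      pullback (spm β) (spm ξ), IsPullback g
      (pullback.snd (spm β) (spm ((algebraMap Ω (AlgebraicClosure Ω)).comp ξ)))
      (pullback.snd (spm β) (spm ξ)) (spm (algebraMap Ω (AlgebraicClosure Ω))) := by
    refine ⟨pullback.lift (pullback.fst (spm β) (spm ((algebraMap Ω (AlgebraicClosure Ω)).comp ξ)))
      (pullback.snd (spm β) (spm ((algebraMap Ω (AlgebraicClosure Ω)).comp ξ)) ≫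
        spm (algebraMap Ω (AlgebraicClosure Ω))) (by
        rw [pullback.condition, spm_comp, Category.assoc]), ?_⟩
    refine IsPullback.of_right (h₁₂ := pullback.fst (spm β) (spm ξ)) (v₁₃ := spm β) (h₂₂ := spm ξ) ?_
      (pullback.lift_snd _ _ _) (IsPullback.of_hasPullback _ _)
    rw [pullback.lift_fst, ← spm_comp]
    exact IsPullback.of_hasPullback _ _
  have h1 : IsIntegralHom (spm (algebraMap Ω (AlgebraicClosure Ω))) := by
    rw [IsIntegralHom.SpecMap_iff]
    exact algebraMap_isIntegral_iff.mpr inferInstance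
  have h2 : UniversallyInjective (spm (algebraMap Ω (AlgebraicClosure Ω))) :=
    Groth.Agent.Etcore.SepClosedRed.universallyInjective_spec Ω (AlgebraicClosure Ω)
  have h3 : Surjective (spm (algebraMap Ω (AlgebraicClosure Ω))) := by
    constructor
    intro y
    exact ⟨default, Subsingleton.elim _ _⟩
  have h4 : IsIntegralHom g := MorphismProperty.of_isPullback (P := @IsIntegralHom) hsq.flip h1
  have h5 : UniversallyInjective g := MorphismProperty.of_isPullback (P := @UniversallyInjective) hsq.flip h2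
  have h6 : Surjective g := MorphismProperty.of_isPullback (P := @Surjective) hsq.flip h3
  exact nc_of_uh g h

end AlgClosure

section Factor

/-- A morphism from a local scheme factors through an open neighbourhood of the image of the closed point. -/
theorem exists_factor {S : Scheme.{u}} {A E : Type u} [CommRing A] [IsLocalRing A] [CommRing E]
    (j : Spec (CommRingCat.of E) ⟶ S) [IsOpenImmersion j] (t : Spec (CommRingCat.of A) ⟶ S)
    (h : t (closedPoint A) ∈ Set.range j) : ∃ ψ : E →+* A, spm ψ ≫ j = t := by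
  have hr : Set.range t ⊆ Set.range j := by
    rintro _ ⟨y, rfl⟩
    have h1 : y ⤳ closedPoint A := IsLocalRing.specializes_closedPoint y
    have h2 : t y ⤳ t (closedPoint A) := h1.map t.continuous
    exact h2.mem_open j.isOpenEmbedding.isOpen_range h
  refine ⟨(Spec.preimage (IsOpenImmersion.lift j t hr)).hom, ?_⟩
  have h1 : spm (Spec.preimage (IsOpenImmersion.lift j t hr)).hom = IsOpenImmersion.lift j t hr :=
    Spec.map_preimage _
  rw [h1, IsOpenImmersion.lift_fac]

end Factor

section IntClosure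

variable {A Ω : Type u} [CommRing A] [Field Ω] (ξ : A →+* Ω)

/-- The integral closure of the image of `A` in `Ω`. -/
abbrev IC : Type u := integralClosure ξ.range Ω

/-- `A ⟶ IC`. -/
noncomputable def toIC : A →+* IC ξ := (algebraMap ξ.range (IC ξ)).comp ξ.rangeRestrict

theorem algebraMap_toIC : (algebraMap (IC ξ) Ω).comp (toIC ξ) = ξ := RingHom.ext fun _ => rfl

theorem toIC_isIntegral : (toIC ξ).IsIntegral := by
  refine RingHom.IsIntegral.trans _ _ (RingHom.isIntegral_of_surjective _ ξ.rangeRestrict_surjective) ?_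
  intro x
  exact Algebra.IsIntegral.isIntegral (R := ξ.range) x

theorem isAlgebraic_of_algOver (h : AlgOver ξ) : Algebra.IsAlgebraic ξ.range Ω := by
  refine ⟨fun y => ?_⟩
  obtain ⟨p, hp, hpy⟩ := h y
  refine ⟨p.map ξ.rangeRestrict, ?_, ?_⟩
  · intro h0
    apply hp
    have h2 : p.map ξ = (p.map ξ.rangeRestrict).map ξ.range.subtype := by
      rw [Polynomial.map_map]
      rfl
    rw [h2, h0, Polynomial.map_zero]
  · rw [aeval_def, eval₂_map]
    exact hpy

theorem algOver_of_isAlgebraic {Ω' : Type u} [Field Ω'] (i : Ω →+* Ω') (y : Ω')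
    (h : ∃ p : ξ.range[X], p ≠ 0 ∧ p.eval₂ (i.comp ξ.range.subtype) y = 0) :
    ∃ p : A[X], p.map (i.comp ξ) ≠ 0 ∧ p.eval₂ (i.comp ξ) y = 0 := by
  obtain ⟨p, hp, hpy⟩ := h
  obtain ⟨q, rfl⟩ := Polynomial.map_surjective ξ.rangeRestrict ξ.rangeRestrict_surjective p
  have e : (i.comp ξ.range.subtype).comp ξ.rangeRestrict = i.comp ξ := RingHom.ext fun _ => rfl
  refine ⟨q, ?_, ?_⟩
  · intro h0
    apply hp
    apply Polynomial.map_injective (i.comp ξ.range.subtype)
      (i.injective.comp Subtype.val_injective)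
    rw [Polynomial.map_map, e, h0, Polynomial.map_zero]
  · rw [eval₂_map, e] at hpy
    exact hpy

theorem algOver_comp (h : AlgOver ξ) (Ω' : Type u) [Field Ω'] [Algebra Ω Ω'] [Algebra.IsAlgebraic Ω Ω'] :
    AlgOver ((algebraMap Ω Ω').comp ξ) := by
  intro y
  apply algOver_of_isAlgebraic
  have h1 := isAlgebraic_of_algOver ξ h
  let _ : Algebra ξ.range Ω' := ((algebraMap Ω Ω').comp ξ.range.subtype).toAlgebra
  have : IsScalarTower ξ.range Ω Ω' := IsScalarTower.of_algebraMap_eq fun _ => rfl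
  have h2 : Algebra.IsAlgebraic ξ.range Ω' := Algebra.IsAlgebraic.trans ξ.range Ω Ω'
  obtain ⟨p, hp, hpy⟩ := Algebra.IsAlgebraic.isAlgebraic (R := ξ.range) y
  exact ⟨p, hp, hpy⟩

theorem isFractionRing_IC (h : AlgOver ξ) : IsFractionRing (IC ξ) Ω := by
  have h1 := isAlgebraic_of_algOver ξ h
  exact integralClosure.isFractionRing_of_algebraic fun x hx => Subtype.ext hx

theorem aic_IC [IsAlgClosed Ω] (p : (IC ξ)[X]) (hp : p.Monic) (hd : 0 < p.natDegree) : ∃ x : IC ξ, p.IsRoot x := by
  have h1 : (p.map (algebraMap (IC ξ) Ω)).degree ≠ 0 := by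
    rw [hp.degree_map]
    intro h
    rw [natDegree_eq_of_degree_eq_some h] at hd
    exact lt_irrefl _ hd
  obtain ⟨y, hy⟩ := IsAlgClosed.exists_root _ h1
  have hy2 : p.eval₂ (algebraMap (IC ξ) Ω) y = 0 := by
    rw [← eval_map]
    exact hy
  have hint : IsIntegral (IC ξ) y := ⟨p, hp, hy2⟩
  have hint' : IsIntegral ξ.range y := isIntegral_trans (R := ξ.range) (A := IC ξ) _ hint
  refine ⟨⟨y, hint'⟩, ?_⟩
  apply Subtype.val_injective
  have h2 : algebraMap (IC ξ) Ω (p.eval ⟨y, hint'⟩) = p.eval₂ (algebraMap (IC ξ) Ω) y := by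
    rw [← eval₂_at_apply]
    rfl
  rw [hy2] at h2
  exact h2

end IntClosure

section Core

/-- A tensor product gives a cartesian square. -/
theorem isPullback_of_equiv {A A' C C' : Type u} [CommRing A] [CommRing A'] [CommRing C] [CommRing C']
    [Algebra A A'] [Algebra A C] (γ : A' →+* C') (δ : C →+* C')
    (e : A' ⊗[A] C ≃+* C') (he : ∀ a b, e (a ⊗ₜ b) = γ a * δ b) :
    IsPullback (spm δ) (spm γ) (spm (algebraMap A C)) (spm (algebraMap A A')) := by
  have h0 := CommRingCat.isPushout_tensorProduct A A' C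
  have h1 : IsPushout (CommRingCat.ofHom (algebraMap A A')) (CommRingCat.ofHom (algebraMap A C))
      (CommRingCat.ofHom γ) (CommRingCat.ofHom δ) := by
    refine IsPushout.of_iso h0 (Iso.refl _) (Iso.refl _) (Iso.refl _) e.toCommRingCatIso ?_ ?_ ?_ ?_
    · simp
    · simp
    · ext a
      change e _ = γ a
      have := he a 1
      rw [map_one, mul_one] at this
      exact this
    · ext b
      change e _ = δ b
      have := he 1 b
      rw [map_one, one_mul] at this
      exact this
  exact (isPullback_SpecMap_of_isPushout _ _ _ _ h1).flip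

theorem nc_core {n : ℕ} {X S : Scheme.{u}} {f : X ⟶ S} {x : X} (h : LApAt n f x)
    {A B : Type u} [CommRing A] [CommRing B] [IsLocalRing B]
    [HenselianLocalRing A] [IsSepClosed (ResidueField A)] (hn : IsUnit (n : A))
    {E : Type u} [CommRing E] [Algebra.FiniteType ℤ E] (ψ : E →+* A) (j : Spec (CommRingCat.of E) ⟶ S)
    (σ : Spec (CommRingCat.of B) ⟶ pullback f (spm ψ ≫ j)) (hσ : IsStrictLoc σ)
    (hx : (σ ≫ pullback.fst f (spm ψ ≫ j)) (closedPoint B) = x)
    (β : A →+* B) [IsLocalHom β] (hβ : σ ≫ pullback.snd f (spm ψ ≫ j) = spm β)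
    (Ω : Type u) [Field Ω] [IsAlgClosed Ω] (ξ : A →+* Ω) (hξ : AlgOver ξ) :
    NC n (pullback (spm β) (spm ξ)) := by
  let V := IC ξ
  let α : A →+* V := toIC ξ
  let _ : Algebra A V := α.toAlgebra
  have i1 : Algebra.IsIntegral A V := ⟨toIC_isIntegral ξ⟩
  obtain ⟨hV, hVloc, hVs⟩ := Groth.Agent.S1964.result A V
  have hVs' : IsSepClosed (ResidueField V) := (hVs inferInstance).1
  have hVl : IsLocalHom α := hVloc
  have hfr : IsFractionRing V Ω := isFractionRing_IC ξ hξ
  -- the base change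
  let φ : E →+* V := α.comp ψ
  have hw : pullback.fst f (spm φ ≫ j) ≫ f = (pullback.snd f (spm φ ≫ j) ≫ spm α) ≫ spm ψ ≫ j := by
    rw [pullback.condition, spm_comp, Category.assoc, Category.assoc]
  let p₁ : pullback f (spm φ ≫ j) ⟶ pullback f (spm ψ ≫ j) :=
    pullback.lift (pullback.fst f (spm φ ≫ j)) (pullback.snd f (spm φ ≫ j) ≫ spm α) hw
  have hp₁f : p₁ ≫ pullback.fst f (spm ψ ≫ j) = pullback.fst f (spm φ ≫ j) := pullback.lift_fst _ _ _
  have hp₁s : p₁ ≫ pullback.snd f (spm ψ ≫ j) = pullback.snd f (spm φ ≫ j) ≫ spm α := pullback.lift_snd _ _ _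
  have hX : IsPullback p₁ (pullback.snd f (spm φ ≫ j)) (pullback.snd f (spm ψ ≫ j)) (spm α) := by
    refine IsPullback.of_right (h₁₂ := pullback.fst f (spm ψ ≫ j)) (v₁₃ := f) (h₂₂ := spm ψ ≫ j) ?_
      hp₁s (IsPullback.of_hasPullback _ _)
    rw [hp₁f, ← Category.assoc, ← spm_comp]
    exact IsPullback.of_hasPullback _ _
  -- the point
  have hpt : (pullback.snd f (spm ψ ≫ j)) (σ (closedPoint B)) = spm α (closedPoint V) := by
    rw [← Scheme.Hom.comp_apply, hβ, spm_closedPoint, spm_closedPoint]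
  obtain ⟨z, hz1, hz2⟩ := Scheme.Pullback.exists_preimage_pullback _ _ hpt
  let x' : ↥(pullback f (spm φ ≫ j)) := hX.isoPullback.inv z
  have hx'1 : p₁ x' = σ (closedPoint B) := by
    rw [← hz1, ← Scheme.Hom.comp_apply, hX.isoPullback_inv_fst]
  have hx'2 : (pullback.snd f (spm φ ≫ j)) x' = closedPoint V := by
    rw [← hz2, ← Scheme.Hom.comp_apply, hX.isoPullback_inv_snd]
  obtain ⟨B', _, _, σ', hσ', hcB'⟩ := exists_isStrictLoc (pullback f (spm φ ≫ j)) x'
  have := hσ'.henselian
  have := hσ'.sepClosed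
  obtain ⟨δ, hδloc, hδ⟩ := exists_map hσ (σ' ≫ p₁) (by
    rw [Scheme.Hom.comp_apply, hcB', hx'1])
  let γ : V →+* B' := (Spec.preimage (R := CommRingCat.of V) (S := CommRingCat.of B')
    (σ' ≫ pullback.snd f (spm φ ≫ j))).hom
  have hγ : spm γ = σ' ≫ pullback.snd f (spm φ ≫ j) := Spec.map_preimage _
  have hγloc : IsLocalHom γ := by
    rw [isLocalHom_iff_comap_closedPoint]
    change (spm γ) (closedPoint B') = _
    rw [hγ, Scheme.Hom.comp_apply, hcB', hx'2]
  have hcomm : γ.comp α = δ.comp β := by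
    rw [← spm_inj, spm_comp, spm_comp, hγ, ← hβ, ← Category.assoc, hδ, Category.assoc, Category.assoc, hp₁s]
  let _ : Algebra A B := β.toAlgebra
  have i2 : IsLocalHom (algebraMap A V) := hVl
  have i3 : IsLocalHom (algebraMap A B) := ‹IsLocalHom β›
  obtain ⟨e, he⟩ := Groth.Agent.Etrest.StrictLocTensor.exists_ringEquiv hX
    (Groth.Agent.Sga4h.SLoc.isStrictLoc_id A) (Groth.Agent.Sga4h.SLoc.isStrictLoc_id V) hσ hσ' γ δ
    (by rw [Category.comp_id, Category.id_comp]) (by rw [Category.comp_id, hβ])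
    (by rw [Category.comp_id, hγ]) hδ hcomm
  have hsq : IsPullback (spm δ) (spm γ) (spm β) (spm α) := isPullback_of_equiv γ δ e he
  have main := nc_of_aic h (aic_IC ξ) (by
      have := hn.map α
      rwa [map_natCast] at this) φ j σ' hσ' (by
      rw [← hp₁f, ← Category.assoc, ← hδ, Category.assoc, Scheme.Hom.comp_apply, spm_closedPoint, hx]) γ hγ.symm Ω
  have hsq2 : IsPullback (pullback.fst (spm γ) (spm (algebraMap V Ω)) ≫ spm δ)
      (pullback.snd (spm γ) (spm (algebraMap V Ω))) (spm β) (spm ξ) := by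
    have h1 := (IsPullback.of_hasPullback (spm γ) (spm (algebraMap V Ω))).paste_horiz hsq
    rw [← spm_comp, algebraMap_toIC] at h1
    exact h1
  exact nc_of_iso n hsq2.isoPullback.hom main

/-- **Local asphericity can be tested over the test rings.** -/
theorem asphAt_of_lapAt {n : ℕ} {X S : Scheme.{u}} {f : X ⟶ S} {x : X}
    (hS : ∃ (E : Type u) (_ : CommRing E) (_ : Algebra.FiniteType ℤ E) (j : Spec (CommRingCat.of E) ⟶ S),
      IsOpenImmersion j ∧ f x ∈ Set.range j)
    (h : LApAt n f x) : AsphAt n f x := by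
  obtain ⟨E, _, _, j, _, hj⟩ := hS
  intro A B _ _ _ _ hA hAs hn t σ hσ hx β _ hβ Ω _ _ ξ hξ
  have h1 : t (closedPoint A) = f x := by
    rw [← hx, ← Scheme.Hom.comp_apply, Category.assoc, pullback.condition, ← Category.assoc, hβ,
      Scheme.Hom.comp_apply, spm_closedPoint]
  obtain ⟨ψ, rfl⟩ := exists_factor j t (by rw [h1]; exact hj)
  apply nc_of_algClosure
  exact nc_core h hn ψ j σ hσ hx β hβ (AlgebraicClosure Ω) _ (algOver_comp ξ hξ (AlgebraicClosure Ω))

/-- The case of an affine base of finite type over `ℤ`. -/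
theorem asphAt_of_lapAt_affine {n : ℕ} {D : Type u} [CommRing D] [Algebra.FiniteType ℤ D] {X : Scheme.{u}}
    {f : X ⟶ Spec (CommRingCat.of D)} {x : X} (h : LApAt n f x) : AsphAt n f x :=
  asphAt_of_lapAt ⟨D, inferInstance, inferInstance, 𝟙 _, inferInstance, ⟨f x, rfl⟩⟩ h

end Core

end K557.LimMain
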