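import Groth.Agent.EtAcyc.K557.PrinLoc
import Groth.Agent.EtAcyc.K168.AsphDef
import Mathlib.AlgebraicGeometry.AffineTransitionLimit

/-!
# Principal covers over a cofiltered limit of schemes

`exists_principal`: a principal cover (with a finite group) of a cofiltered limit of qcqs schemes with affine
transition maps comes from a stage. `nc_of_isLimit`: `NC n` passes to the limit.
-/

set_option autoImplicit false
universe u v

open CategoryTheory CategoryTheory.Limits AlgebraicGeometry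

namespace K557.PrinLim

open Groth.Agent.Pi1A Groth.Agent.Pi1A.LimIso Groth.Agent.Pi1A.FEtAffine Groth.Agent.Pi1A.FEtLimit
open Groth.Agent.Pi1.H383.ActDesc Groth.Agent.Pi1.H383.PrincBC
open K557.PrinLoc K168.AsphDef

variable {I : Type u} [SmallCategory I] [IsCofiltered I] [Quiver.IsThin I] {D : I ⥤ Scheme.{u}}
  {c : Cone D} (hc : IsLimit c) [∀ (i j : I) (f : i ⟶ j), IsAffineHom (D.map f)]
  [∀ i, CompactSpace (D.obj i)] [∀ i, QuasiSeparatedSpace (D.obj i)]

include hc in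
/-- Finite families of endomorphisms descend. -/
theorem exists_endos (G : Type v) [Finite G] [Nonempty G] (Z : FEt.Cat c.pt) (a' : G → (Z ⟶ Z)) :
    ∃ (j : I) (W : FEt.Cat (D.obj j)) (β : G → (W ⟶ W)) (e : (FEt.restrict (c.π.app j)).obj W ≅ Z),
      ∀ g, (FEt.restrict (c.π.app j)).map (β g) ≫ e.hom = e.hom ≫ a' g := by
  classical
  cases nonempty_fintype G
  obtain ⟨g₀⟩ := ‹Nonempty G›
  obtain ⟨i, W₀, ⟨e₀⟩⟩ := exists_obj hc Z
  obtain ⟨a, ha⟩ : ∃ a : G → ((FEt.restrict (c.π.app i)).obj W₀ ⟶ (FEt.restrict (c.π.app i)).obj W₀),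
      ∀ g, a g = e₀.hom ≫ a' g ≫ e₀.inv := ⟨_, fun _ => rfl⟩
  choose J φ b hb using fun g => exists_hom hc i W₀ W₀ (a g)
  obtain ⟨j, hj⟩ := IsCofiltered.inf_objs_exists (Finset.univ.image J)
  let ψ : ∀ g, j ⟶ J g := fun g =>
    Classical.choice (hj (Finset.mem_image_of_mem _ (Finset.mem_univ g)))
  let φ₀ : j ⟶ i := ψ g₀ ≫ φ g₀
  have hφ₀ : ∀ g, ψ g ≫ φ g = φ₀ := fun g => Subsingleton.elim _ _
  let W : FEt.Cat (D.obj j) := (FEt.restrict (D.map φ₀)).obj W₀
  let r : ((FEt.restrict (c.π.app i)).obj W₀).left ⟶ W.left :=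
    bcMap W₀.hom (D.map φ₀) (c.π.app i) (c.π.app j) (c.w φ₀)
  have hr : IsPullback r ((FEt.restrict (c.π.app i)).obj W₀).hom W.hom (c.π.app j) :=
    isPullback_bcMap ..
  -- the endomorphisms at level `j`
  have key : ∀ g, ∃ β : W ⟶ W, r ≫ β.left = (a g).left ≫ r := by
    intro g
    let q : pullback W₀.hom (D.map φ₀) ⟶ pullback W₀.hom (D.map (φ g)) :=
      bcMap W₀.hom (D.map (φ g)) (D.map φ₀) (D.map (ψ g)) (by rw [← D.map_comp, hφ₀])
    let r' : pullback W₀.hom (c.π.app i) ⟶ pullback W₀.hom (D.map φ₀) := r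
    have hq : r' ≫ q = bcMap W₀.hom (D.map (φ g)) (c.π.app i) (c.π.app (J g)) (c.w (φ g)) := by
      apply pullback.hom_ext
      · simp [r', r, q]
      · simp only [Category.assoc, r', r, q, bcMap_snd, bcMap_snd_assoc]
        rw [c.w]
    let b' : pullback W₀.hom (D.map (φ g)) ⟶ pullback W₀.hom (D.map (φ g)) := (b g).left
    have hb' : b' ≫ pullback.snd W₀.hom (D.map (φ g)) = pullback.snd W₀.hom (D.map (φ g)) :=
      hom_w (b g)
    let a' : pullback W₀.hom (c.π.app i) ⟶ pullback W₀.hom (c.π.app i) := (a g).left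
    have ha' : a' ≫ pullback.snd W₀.hom (c.π.app i) = pullback.snd W₀.hom (c.π.app i) := hom_w (a g)
    have hb'' : bcMap W₀.hom (D.map (φ g)) (c.π.app i) (c.π.app (J g)) (c.w (φ g)) ≫ b' =
        a' ≫ bcMap W₀.hom (D.map (φ g)) (c.π.app i) (c.π.app (J g)) (c.w (φ g)) := hb g
    let β : pullback W₀.hom (D.map φ₀) ⟶ pullback W₀.hom (D.map φ₀) :=
      pullback.lift (q ≫ b' ≫ pullback.fst W₀.hom (D.map (φ g))) (pullback.snd W₀.hom (D.map φ₀)) (by
        rw [Category.assoc, Category.assoc, pullback.condition, ← Category.assoc b', hb']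
        simp only [q, bcMap_snd_assoc, ← D.map_comp, hφ₀])
    refine ⟨MorphismProperty.Over.homMk (A := W) (B := W) β (pullback.lift_snd _ _ _) trivial, ?_⟩
    change r' ≫ β = a' ≫ r'
    apply pullback.hom_ext
    · rw [Category.assoc, pullback.lift_fst, ← Category.assoc, hq, ← Category.assoc, hb'']
      simp [r', r]
    · rw [Category.assoc, pullback.lift_snd]
      simp only [Category.assoc, r', r, bcMap_snd, reassoc_of% ha']
  choose β hβ using key
  -- the isomorphism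
  let e₁' : ((FEt.restrict (c.π.app j)).obj W).left ≅ ((FEt.restrict (c.π.app i)).obj W₀).left :=
    hr.isoPullback.symm
  let e₁ : (FEt.restrict (c.π.app j)).obj W ≅ (FEt.restrict (c.π.app i)).obj W₀ :=
    isoMk (T := (FEt.restrict (c.π.app j)).obj W) (T' := (FEt.restrict (c.π.app i)).obj W₀) e₁'
      hr.isoPullback_inv_snd
  have he₁ : e₁.hom.left ≫ r = proj (c.π.app j) W := hr.isoPullback_inv_fst
  refine ⟨j, W, β, e₁ ≪≫ e₀, fun g => ?_⟩
  have h2 : (FEt.restrict (c.π.app j)).map (β g) ≫ e₁.hom = e₁.hom ≫ a g := by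
    apply MorphismProperty.Over.Hom.ext
    apply hr.hom_ext
    · rw [MorphismProperty.Comma.comp_left, MorphismProperty.Comma.comp_left, Category.assoc, he₁,
        map_left_proj, Category.assoc, ← hβ, ← Category.assoc, he₁]
    · have h3 := hom_w ((FEt.restrict (c.π.app j)).map (β g) ≫ e₁.hom)
      have h4 := hom_w (e₁.hom ≫ a g)
      exact h3.trans h4.symm
  rw [Iso.trans_hom, ← Category.assoc, h2]
  rw [ha]
  simp

omit [IsCofiltered I] [Quiver.IsThin I] [∀ (i j : I) (f : i ⟶ j), IsAffineHom (D.map f)]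
  [∀ i, CompactSpace (D.obj i)] [∀ i, QuasiSeparatedSpace (D.obj i)] in
/-- Restricting along `c.π.app k`. -/
theorem nonempty_restrict_iso {j k : I} (φ : k ⟶ j) (W : FEt.Cat (D.obj j)) :
    Nonempty ((FEt.restrict (c.π.app k)).obj ((FEt.restrict (D.map φ)).obj W) ≅
      (FEt.restrict (c.π.app j)).obj W) := by
  refine nonempty_iso_of_isPullback (c.π.app k) ((FEt.restrict (D.map φ)).obj W)
    ((FEt.restrict (c.π.app j)).obj W) (bcMap W.hom (D.map φ) (c.π.app j) (c.π.app k) (c.w φ)) ?_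
  exact isPullback_bcMap ..

include hc in
/-- Principal covers of the limit come from a stage. -/
theorem exists_principal (G : Type v) [Group G] [Finite G] (Z : FEt.Cat c.pt) (ρ' : G →* Aut Z)
    (hp : SGA1t.IsPrincipal G Z ρ') :
    ∃ (j : I) (W : FEt.Cat (D.obj j)) (ρ : G →* Aut W), SGA1t.IsPrincipal G W ρ ∧
      Nonempty ((FEt.restrict (c.π.app j)).obj W ≅ Z) := by
  obtain ⟨j, W, β, e, he⟩ := exists_endos hc G Z (fun g => (ρ' g).hom)
  obtain ⟨K, hK, hKt⟩ := exists_bad G W β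
  have h1 : ∀ x, c.π.app j x ∉ K := by
    refine (hKt (c.π.app j)).1 ⟨conjAction e.symm ρ', fun g => ?_, isPrincipal_conj G e.symm ρ' hp⟩
    rw [conjAction_hom]
    change e.hom ≫ (ρ' g).hom ≫ e.inv = _
    rw [← Category.assoc, ← he, Category.assoc, e.hom_inv_id, Category.comp_id]
  obtain ⟨k, φ, hφ⟩ := exists_map_preimage_le_map_preimage D c hc (i := j)
    (U := ⟨K, hK.isOpen⟩) (V := ⊥) hK.isClosed.isCompact (by
      intro x hx
      exact (h1 x hx).elim)
  have h2 : ∀ x, D.map φ x ∉ K := fun x hx => (hφ hx : _)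
  obtain ⟨ρ, -, hρ⟩ := (hKt (D.map φ)).2 h2
  obtain ⟨e'⟩ := nonempty_restrict_iso (c := c) φ W
  exact ⟨k, _, ρ, hρ, ⟨e' ≪≫ e⟩⟩

/-- Sections of isomorphic covers. -/
theorem sec_of_iso {Y : Scheme.{u}} {P Q : FEt.Cat Y} (e : P ≅ Q) (s : Nonempty (SGA1t.Sec P)) :
    Nonempty (SGA1t.Sec Q) := by
  obtain ⟨s⟩ := s
  exact ⟨⟨s.1 ≫ e.hom.left, by rw [Category.assoc, hom_w, s.2]⟩⟩

include hc in
/-- `NC n` passes to the limit. -/
theorem nc_of_isLimit (n : ℕ) (h : ∀ i, NC n (D.obj i)) : NC n c.pt := by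
  intro G _ _ hG P ρ hP
  obtain ⟨j, W, ρ', hρ', ⟨e⟩⟩ := exists_principal hc G P ρ hP
  obtain ⟨s⟩ := h j G hG W ρ' hρ'
  exact sec_of_iso e ⟨SGA1t.secPull (c.π.app j) W s⟩

/-- `NC n` is invariant under isomorphisms. -/
theorem nc_of_iso {Y Y' : Scheme.{u}} (n : ℕ) (a : Y ⟶ Y') [IsIso a] (h : NC n Y) : NC n Y' := by
  intro G _ _ hG P ρ hP
  obtain ⟨s⟩ := h G hG _ _ (isPrincipal_bc a G P ρ hP)
  refine ⟨⟨inv a ≫ s.1 ≫ proj a P, ?_⟩⟩
  rw [Category.assoc, Category.assoc, (isPullback a P).w, ← Category.assoc s.1, s.2, Category.id_comp,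
    IsIso.inv_hom_id]

end K557.PrinLim
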