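import Mathlib.CategoryTheory.Limits.Shapes.Pullback.HasPullback
import Mathlib.CategoryTheory.Limits.HasLimits

/-!
# Fibre products of limits: `lim P ×_{lim W} lim Q = lim (P ×_W Q)`.
-/

set_option autoImplicit false
universe w w' v u

open CategoryTheory CategoryTheory.Limits

namespace K557.TripleLim

variable {C : Type u} [Category.{v} C] [HasPullbacks C] {J : Type w} [Category.{w'} J]
  {P Q W : J ⥤ C} (b : P ⟶ W) (l : Q ⟶ W)

/-- The transition maps. -/
noncomputable def mapp {a a' : J} (h : a ⟶ a') : pullback (b.app a) (l.app a) ⟶ pullback (b.app a') (l.app a') :=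
  pullback.lift (pullback.fst (b.app a) (l.app a) ≫ P.map h)
    (pullback.snd (b.app a) (l.app a) ≫ Q.map h) (by
      rw [Category.assoc, b.naturality, Category.assoc, l.naturality, ← Category.assoc, ← Category.assoc,
        pullback.condition])

@[reassoc (attr := simp)]
theorem mapp_fst {a a' : J} (h : a ⟶ a') :
    mapp b l h ≫ pullback.fst (b.app a') (l.app a') = pullback.fst (b.app a) (l.app a) ≫ P.map h :=
  pullback.lift_fst _ _ _

@[reassoc (attr := simp)]
theorem mapp_snd {a a' : J} (h : a ⟶ a') :
    mapp b l h ≫ pullback.snd (b.app a') (l.app a') = pullback.snd (b.app a) (l.app a) ≫ Q.map h :=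
  pullback.lift_snd _ _ _

/-- The system of fibre products. -/
noncomputable def sys : J ⥤ C where
  obj a := pullback (b.app a) (l.app a)
  map {a a'} h := mapp b l h
  map_id a := by
    apply pullback.hom_ext
    · rw [mapp_fst, P.map_id, Category.comp_id, Category.id_comp]
    · rw [mapp_snd, Q.map_id, Category.comp_id, Category.id_comp]
  map_comp h h' := by
    apply pullback.hom_ext
    · rw [mapp_fst, P.map_comp, Category.assoc, mapp_fst, mapp_fst_assoc]
    · rw [mapp_snd, Q.map_comp, Category.assoc, mapp_snd, mapp_snd_assoc]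

variable {cP : Cone P} {cQ : Cone Q} {cW : Cone W} (p : cP.pt ⟶ cW.pt) (q : cQ.pt ⟶ cW.pt)
  (hp : ∀ a, p ≫ cW.π.app a = cP.π.app a ≫ b.app a) (hq : ∀ a, q ≫ cW.π.app a = cQ.π.app a ≫ l.app a)

/-- The projections. -/
noncomputable def proj (a : J) : pullback p q ⟶ pullback (b.app a) (l.app a) :=
  pullback.lift (pullback.fst p q ≫ cP.π.app a) (pullback.snd p q ≫ cQ.π.app a) (by
    rw [Category.assoc, ← hp, Category.assoc, ← hq, ← Category.assoc, ← Category.assoc, pullback.condition])

@[reassoc (attr := simp)]
theorem proj_fst (a : J) : proj b l p q hp hq a ≫ pullback.fst (b.app a) (l.app a) =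
    pullback.fst p q ≫ cP.π.app a := pullback.lift_fst _ _ _

@[reassoc (attr := simp)]
theorem proj_snd (a : J) : proj b l p q hp hq a ≫ pullback.snd (b.app a) (l.app a) =
    pullback.snd p q ≫ cQ.π.app a := pullback.lift_snd _ _ _

theorem proj_mapp {a a' : J} (h : a ⟶ a') : proj b l p q hp hq a ≫ mapp b l h = proj b l p q hp hq a' := by
  apply pullback.hom_ext
  · rw [Category.assoc, mapp_fst, proj_fst, proj_fst_assoc, cP.w]
  · rw [Category.assoc, mapp_snd, proj_snd, proj_snd_assoc, cQ.w]

/-- The cone of fibre products. -/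
noncomputable def cone : Cone (sys b l) where
  pt := pullback p q
  π :=
    { app := fun a => proj b l p q hp hq a
      naturality := fun a a' h => (Category.id_comp _).trans (proj_mapp b l p q hp hq h).symm }

/-- The legs of a cone over the fibre products, with the unfolded target. -/
noncomputable def leg (s : Cone (sys b l)) (a : J) : s.pt ⟶ pullback (b.app a) (l.app a) := s.π.app a

theorem leg_w (s : Cone (sys b l)) {a a' : J} (h : a ⟶ a') :
    leg b l s a ≫ mapp b l h = leg b l s a' := s.w h

/-- the first cone -/
noncomputable def coneFst (s : Cone (sys b l)) : Cone P where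
  pt := s.pt
  π :=
    { app := fun a => leg b l s a ≫ pullback.fst (b.app a) (l.app a)
      naturality := fun a a' h => by
        dsimp only [Functor.const_obj_obj, Functor.const_obj_map]
        rw [Category.id_comp, Category.assoc, ← mapp_fst, ← Category.assoc, leg_w] }

/-- the second cone -/
noncomputable def coneSnd (s : Cone (sys b l)) : Cone Q where
  pt := s.pt
  π :=
    { app := fun a => leg b l s a ≫ pullback.snd (b.app a) (l.app a)
      naturality := fun a a' h => by
        dsimp only [Functor.const_obj_obj, Functor.const_obj_map]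
        rw [Category.id_comp, Category.assoc, ← mapp_snd, ← Category.assoc, leg_w] }

/-- lifts -/
noncomputable def liftFst (hP : IsLimit cP) (s : Cone (sys b l)) : s.pt ⟶ cP.pt := hP.lift (coneFst b l s)

/-- lifts -/
noncomputable def liftSnd (hQ : IsLimit cQ) (s : Cone (sys b l)) : s.pt ⟶ cQ.pt := hQ.lift (coneSnd b l s)

@[reassoc]
theorem liftFst_fac (hP : IsLimit cP) (s : Cone (sys b l)) (a : J) :
    liftFst b l hP s ≫ cP.π.app a = leg b l s a ≫ pullback.fst (b.app a) (l.app a) := hP.fac _ _

@[reassoc]
theorem liftSnd_fac (hQ : IsLimit cQ) (s : Cone (sys b l)) (a : J) :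
    liftSnd b l hQ s ≫ cQ.π.app a = leg b l s a ≫ pullback.snd (b.app a) (l.app a) := hQ.fac _ _

include hp hq in
theorem lift_cond (hP : IsLimit cP) (hQ : IsLimit cQ) (hW : IsLimit cW) (s : Cone (sys b l)) :
    liftFst b l hP s ≫ p = liftSnd b l hQ s ≫ q := by
  apply hW.hom_ext
  intro a
  rw [Category.assoc, hp, Category.assoc, hq, liftFst_fac_assoc, liftSnd_fac_assoc, pullback.condition]

/-- The fibre product of limits is the limit of the fibre products. -/
noncomputable def isLimitCone (hP : IsLimit cP) (hQ : IsLimit cQ) (hW : IsLimit cW) :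
    IsLimit (cone b l p q hp hq) where
  lift s := pullback.lift (liftFst b l hP s) (liftSnd b l hQ s) (lift_cond b l p q hp hq hP hQ hW s)
  fac s a := by
    change pullback.lift (liftFst b l hP s) (liftSnd b l hQ s) (lift_cond b l p q hp hq hP hQ hW s) ≫
      proj b l p q hp hq a = leg b l s a
    apply pullback.hom_ext
    · rw [Category.assoc, proj_fst, pullback.lift_fst_assoc, liftFst_fac]
    · rw [Category.assoc, proj_snd, pullback.lift_snd_assoc, liftSnd_fac]
  uniq s (m : s.pt ⟶ pullback p q) hm := by
    have hm' : ∀ a, m ≫ proj b l p q hp hq a = leg b l s a := hm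
    apply pullback.hom_ext
    · rw [pullback.lift_fst]
      apply hP.hom_ext
      intro a
      rw [liftFst_fac, Category.assoc, ← proj_fst b l p q hp hq a, ← Category.assoc, hm']
    · rw [pullback.lift_snd]
      apply hQ.hom_ext
      intro a
      rw [liftSnd_fac, Category.assoc, ← proj_snd b l p q hp hq a, ← Category.assoc, hm']

end K557.TripleLim
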