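import Groth.Agent.EtAcyc.K557.TPUnion
import Groth.Agent.EtAcyc.K557.PrinLim
import Groth.Agent.EtAcyc.K557.TripleLim
import Groth.Agent.Sga4h.SLocLim817
import Groth.Agent.Etcore.PullbackLim
import Groth.Agent.Etcore.FGLim

/-!
# Local asphericity over absolutely integrally closed local domains, from the test rings

`nc_of_aic`: `LApAt n f x` implies the statement of `LApAt n f x` for all absolutely integrally closed local domains
`V` in place of the test rings `O`, provided `Spec V ⟶ S` factors through the spectrum of a ring of finite type over `ℤ`.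
-/

set_option autoImplicit false
universe u

open CategoryTheory CategoryTheory.Limits AlgebraicGeometry IsLocalRing Polynomial Opposite

namespace K557.LimAic

open K168.AsphDef K557.TPUnion K557.PrinLim Groth.Agent.Etrest.StrictLoc Groth.Agent.Etcore
open Groth.Agent.Sga4h.SLocLim817

section

variable {V : Type u} [CommRing V]

/-- The inclusions `O C ⟶ O C'`. -/
def incl {C C' : Subring V} (h : C ≤ C') : O C →+* O C' := Subring.inclusion (O_mono h)

theorem incl_comp {C C' C'' : Subring V} (h : C ≤ C') (h' : C' ≤ C'') :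
    (incl h').comp (incl h) = incl (h.trans h') := RingHom.ext fun _ => Subtype.ext rfl

theorem incl_self {C : Subring V} (h : C ≤ C) : incl h = RingHom.id _ := RingHom.ext fun _ => Subtype.ext rfl

theorem subtype_incl {C C' : Subring V} (h : C ≤ C') : (O C').subtype.comp (incl h) = (O C).subtype :=
  RingHom.ext fun _ => rfl

theorem isLocalHom_incl {C C' : Subring V} (h : C ≤ C') : IsLocalHom (incl h) := isLocalHom_inclusion (O_mono h)

variable (S₀ : Finset V)

/-- The system of the rings `O C`. -/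
noncomputable def Osys : Finset V ⥤ CommRingCat.{u} where
  obj F := CommRingCat.of (O (cl S₀ F))
  map h := CommRingCat.ofHom (incl (cl_mono S₀ h.le))
  map_id _ := by
    rw [incl_self]
    rfl
  map_comp _ _ := by
    rw [← CommRingCat.ofHom_comp, incl_comp]

/-- The cocone with point `V`. -/
noncomputable def Ococone : Cocone (Osys S₀) where
  pt := CommRingCat.of V
  ι :=
    { app := fun F => CommRingCat.ofHom (O (cl S₀ F)).subtype
      naturality := fun F F' h => by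
        refine Eq.trans ?_ (Category.comp_id _).symm
        change CommRingCat.ofHom (incl (cl_mono S₀ h.le)) ≫ CommRingCat.ofHom (O (cl S₀ F')).subtype = _
        rw [← CommRingCat.ofHom_comp, subtype_incl] }

theorem nonempty_isColimit_O : Nonempty (IsColimit (Ococone S₀)) := by
  apply FGLim.nonempty_isColimit
  · intro (x : V)
    obtain ⟨F, hF⟩ := exists_mem_O S₀ x
    exact ⟨F, ⟨x, hF⟩, rfl⟩
  · intro F y z h
    have h1 : y = z := Subtype.ext h
    exact ⟨F, 𝟙 F, by rw [h1]⟩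

variable (Ω : Type u) [Field Ω] [Algebra V Ω] [IsDomain V] [FaithfulSMul V Ω]

/-- The inclusions `L C ⟶ L C'`. -/
def inclL {C C' : Subring V} (h : C ≤ C') : L Ω C →+* L Ω C' := Subfield.inclusion (L_mono Ω h)

theorem inclL_comp {C C' C'' : Subring V} (h : C ≤ C') (h' : C' ≤ C'') :
    (inclL Ω h').comp (inclL Ω h) = inclL Ω (h.trans h') := RingHom.ext fun _ => Subtype.ext rfl

theorem inclL_self {C : Subring V} (h : C ≤ C) : inclL Ω h = RingHom.id _ :=
  RingHom.ext fun _ => Subtype.ext rfl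

theorem subtype_inclL {C C' : Subring V} (h : C ≤ C') :
    (L Ω C').subtype.comp (inclL Ω h) = (L Ω C).subtype := RingHom.ext fun _ => rfl

theorem toL_incl {C C' : Subring V} (h : C ≤ C') :
    (toL Ω C').comp (incl h) = (inclL Ω h).comp (toL Ω C) := RingHom.ext fun _ => Subtype.ext rfl

/-- The system of the fields `L Ω C`. -/
noncomputable def Lsys : Finset V ⥤ CommRingCat.{u} where
  obj F := CommRingCat.of (L Ω (cl S₀ F))
  map h := CommRingCat.ofHom (inclL Ω (cl_mono S₀ h.le))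
  map_id _ := by
    rw [inclL_self]
    rfl
  map_comp _ _ := by
    rw [← CommRingCat.ofHom_comp, inclL_comp]

/-- The cocone with point `Ω`. -/
noncomputable def Lcocone : Cocone (Lsys S₀ Ω) where
  pt := CommRingCat.of Ω
  ι :=
    { app := fun F => CommRingCat.ofHom (L Ω (cl S₀ F)).subtype
      naturality := fun F F' h => by
        refine Eq.trans ?_ (Category.comp_id _).symm
        change CommRingCat.ofHom (inclL Ω (cl_mono S₀ h.le)) ≫ CommRingCat.ofHom (L Ω (cl S₀ F')).subtype = _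
        rw [← CommRingCat.ofHom_comp, subtype_inclL] }

/-- The maps `O C ⟶ L C`. -/
noncomputable def toLsys : Osys S₀ ⟶ Lsys S₀ Ω where
  app F := CommRingCat.ofHom (toL Ω (cl S₀ F))
  naturality F F' h := by
    change CommRingCat.ofHom (incl (cl_mono S₀ h.le)) ≫ CommRingCat.ofHom (toL Ω (cl S₀ F')) =
      CommRingCat.ofHom (toL Ω (cl S₀ F)) ≫ CommRingCat.ofHom (inclL Ω (cl_mono S₀ h.le))
    rw [← CommRingCat.ofHom_comp, ← CommRingCat.ofHom_comp, toL_incl]

end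

theorem nonempty_isColimit_L {V : Type u} [CommRing V] (S₀ : Finset V) (Ω : Type u) [Field Ω] [Algebra V Ω]
    [IsDomain V] [IsFractionRing V Ω] : Nonempty (IsColimit (Lcocone S₀ Ω)) := by
  apply FGLim.nonempty_isColimit
  · intro (x : Ω)
    obtain ⟨F, hF⟩ := exists_mem_L S₀ Ω x
    exact ⟨F, ⟨x, hF⟩, rfl⟩
  · intro F y z h
    have h1 : y = z := Subtype.ext h
    exact ⟨F, 𝟙 F, by rw [h1]⟩

section Gens

theorem exists_gens {E V : Type u} [CommRing E] [CommRing V] [Algebra.FiniteType ℤ E] (φ : E →+* V) :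
    ∃ S₀ : Finset V, φ.range ≤ Subring.closure (S₀ : Set V) := by
  classical
  obtain ⟨s, hs⟩ := (inferInstance : Algebra.FiniteType ℤ E).out
  refine ⟨s.image φ, ?_⟩
  rintro _ ⟨e, rfl⟩
  have he : e ∈ Algebra.adjoin ℤ (s : Set E) := by rw [hs]; trivial
  rw [Finset.coe_image, ← RingHom.map_closure]
  refine ⟨e, ?_, rfl⟩
  rw [Algebra.adjoin_int] at he
  exact he

end Gens

section Main

variable {X S : Scheme.{u}} (f : X ⟶ S)
  {V B : Type u} [CommRing V] [IsDomain V] [IsLocalRing V] [CommRing B] [IsLocalRing B]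
  {E : Type u} [CommRing E] (φ : E →+* V) (j : Spec (CommRingCat.of E) ⟶ S)
  (S₀ : Finset V) (hS₀ : φ.range ≤ Subring.closure (S₀ : Set V))

/-- `E ⟶ O C`. -/
noncomputable def φF (F : Finset V) : E →+* O (cl S₀ F) :=
  φ.codRestrict _ fun e => le_O _ (base_le_cl S₀ F (hS₀ ⟨e, rfl⟩))

omit [IsDomain V] [IsLocalRing V] in
theorem subtype_φF (F : Finset V) : (O (cl S₀ F)).subtype.comp (φF φ S₀ hS₀ F) = φ := RingHom.ext fun _ => rfl

omit [IsDomain V] [IsLocalRing V] in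
theorem incl_φF {F F' : Finset V} (h : F ≤ F') :
    (incl (cl_mono S₀ h)).comp (φF φ S₀ hS₀ F) = φF φ S₀ hS₀ F' := RingHom.ext fun _ => rfl

/-- the structure maps -/
noncomputable def τ (a : (Finset V)ᵒᵖ) : (PullbackLim.specSys (Osys S₀)).obj a ⟶ S :=
  spm (φF φ S₀ hS₀ a.unop) ≫ j

omit [IsDomain V] [IsLocalRing V] in
theorem hτ ⦃a b : (Finset V)ᵒᵖ⦄ (h : a ⟶ b) :
    (PullbackLim.specSys (Osys S₀)).map h ≫ τ φ j S₀ hS₀ b = τ φ j S₀ hS₀ a := by
  change spm (incl (cl_mono S₀ h.unop.le)) ≫ spm (φF φ S₀ hS₀ b.unop) ≫ j = spm (φF φ S₀ hS₀ a.unop) ≫ j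
  rw [← Category.assoc, ← spm_comp, incl_φF φ S₀ hS₀ h.unop.le]

omit [IsDomain V] [IsLocalRing V] in
theorem ht (a : (Finset V)ᵒᵖ) :
    (PullbackLim.specCone (Osys S₀) (Ococone S₀)).π.app a ≫ τ φ j S₀ hS₀ a = spm φ ≫ j := by
  change spm (O (cl S₀ a.unop)).subtype ≫ spm (φF φ S₀ hS₀ a.unop) ≫ j = spm φ ≫ j
  rw [← Category.assoc, ← spm_comp, subtype_φF]

/-- the system of the `X ×_S Spec O C` -/
noncomputable abbrev XF : (Finset V)ᵒᵖ ⥤ Scheme.{u} :=
  PullbackLim.sys (PullbackLim.specSys (Osys S₀)) (τ φ j S₀ hS₀) (hτ φ j S₀ hS₀) f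

/-- the cone -/
noncomputable abbrev XC : Cone (XF f φ j S₀ hS₀) :=
  PullbackLim.cone (PullbackLim.specSys (Osys S₀)) (τ φ j S₀ hS₀) (hτ φ j S₀ hS₀) f
    (PullbackLim.specCone (Osys S₀) (Ococone S₀)) (spm φ ≫ j) (ht φ j S₀ hS₀)

omit [IsDomain V] [IsLocalRing V] in
theorem nonempty_isLimit_XC : Nonempty (IsLimit (XC f φ j S₀ hS₀)) := by
  obtain ⟨h⟩ := nonempty_isColimit_O S₀
  exact ⟨PullbackLim.isLimitCone _ _ _ _ _ _ _ (PullbackLim.isLimitSpecCone _ _ h)⟩

/-- transition maps -/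
noncomputable def MF {F F' : Finset V} (h : F ⟶ F') :
    pullback f (spm (φF φ S₀ hS₀ F') ≫ j) ⟶ pullback f (spm (φF φ S₀ hS₀ F) ≫ j) :=
  PullbackLim.mapp (PullbackLim.specSys (Osys S₀)) (τ φ j S₀ hS₀) (hτ φ j S₀ hS₀) f h.op

omit [IsDomain V] [IsLocalRing V] in
theorem MF_snd {F F' : Finset V} (h : F ⟶ F') : MF f φ j S₀ hS₀ h ≫ pullback.snd f (spm (φF φ S₀ hS₀ F) ≫ j) =
    pullback.snd f (spm (φF φ S₀ hS₀ F') ≫ j) ≫ spm (incl (cl_mono S₀ h.le)) :=
  PullbackLim.mapp_snd (PullbackLim.specSys (Osys S₀)) (τ φ j S₀ hS₀) (hτ φ j S₀ hS₀) f h.op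

/-- projections -/
noncomputable def PF (F : Finset V) : pullback f (spm φ ≫ j) ⟶ pullback f (spm (φF φ S₀ hS₀ F) ≫ j) :=
  PullbackLim.proj (PullbackLim.specSys (Osys S₀)) (τ φ j S₀ hS₀) f
    (PullbackLim.specCone (Osys S₀) (Ococone S₀)) (spm φ ≫ j) (ht φ j S₀ hS₀) (op F)

omit [IsDomain V] [IsLocalRing V] in
theorem PF_snd (F : Finset V) : PF f φ j S₀ hS₀ F ≫ pullback.snd f (spm (φF φ S₀ hS₀ F) ≫ j) =
    pullback.snd f (spm φ ≫ j) ≫ spm (O (cl S₀ F)).subtype :=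
  PullbackLim.proj_snd (PullbackLim.specSys (Osys S₀)) (τ φ j S₀ hS₀) f
    (PullbackLim.specCone (Osys S₀) (Ococone S₀)) (spm φ ≫ j) (ht φ j S₀ hS₀) (op F)

omit [IsDomain V] [IsLocalRing V] in
theorem PF_fst (F : Finset V) : PF f φ j S₀ hS₀ F ≫ pullback.fst f (spm (φF φ S₀ hS₀ F) ≫ j) =
    pullback.fst f (spm φ ≫ j) :=
  PullbackLim.proj_fst (PullbackLim.specSys (Osys S₀)) (τ φ j S₀ hS₀) f
    (PullbackLim.specCone (Osys S₀) (Ococone S₀)) (spm φ ≫ j) (ht φ j S₀ hS₀) (op F)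

variable {f φ j S₀ hS₀} {σ : Spec (CommRingCat.of B) ⟶ (XC f φ j S₀ hS₀).pt}

/-- the structure map of a stage -/
noncomputable def sp {F : Finset V} (s : Stage (XF f φ j S₀ hS₀) (XC f φ j S₀ hS₀) σ F) :
    Spec (CommRingCat.of s.R) ⟶ pullback f (spm (φF φ S₀ hS₀ F) ≫ j) := s.p

/-- `O C ⟶ R_F` -/
noncomputable def bF {F : Finset V} (s : Stage (XF f φ j S₀ hS₀) (XC f φ j S₀ hS₀) σ F) : O (cl S₀ F) →+* s.R :=
  (Spec.preimage (R := CommRingCat.of (O (cl S₀ F))) (S := CommRingCat.of s.R)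
    (sp s ≫ pullback.snd f (spm (φF φ S₀ hS₀ F) ≫ j))).hom

omit [IsDomain V] [IsLocalRing V] in
theorem spm_bF {F : Finset V} (s : Stage (XF f φ j S₀ hS₀) (XC f φ j S₀ hS₀) σ F) :
    spm (bF s) = sp s ≫ pullback.snd f (spm (φF φ S₀ hS₀ F) ≫ j) := Spec.map_preimage _

omit [IsDomain V] [IsLocalRing V] in
theorem tr_sp (hσ : IsStrictLoc σ) (s : ∀ F, Stage (XF f φ j S₀ hS₀) (XC f φ j S₀ hS₀) σ F) {F F' : Finset V}
    (h : F ⟶ F') : spm (tr _ _ hσ s h) ≫ sp (s F) = sp (s F') ≫ MF f φ j S₀ hS₀ h := tr_spm _ _ hσ s h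

omit [IsDomain V] [IsLocalRing V] in
theorem tr_bF (hσ : IsStrictLoc σ) (s : ∀ F, Stage (XF f φ j S₀ hS₀) (XC f φ j S₀ hS₀) σ F) {F F' : Finset V}
    (h : F ⟶ F') : (bF (s F')).comp (incl (cl_mono S₀ h.le)) = (tr _ _ hσ s h).comp (bF (s F)) := by
  rw [← spm_inj, spm_comp, spm_comp, spm_bF, spm_bF, ← Category.assoc, tr_sp, Category.assoc, Category.assoc,
    MF_snd]

/-- the natural transformation `O C ⟶ R_F` -/
noncomputable def bsys (hσ : IsStrictLoc σ) (s : ∀ F, Stage (XF f φ j S₀ hS₀) (XC f φ j S₀ hS₀) σ F) :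
    Osys S₀ ⟶ system _ _ hσ s where
  app F := CommRingCat.ofHom (bF (s F))
  naturality F F' h := by
    change CommRingCat.ofHom (incl (cl_mono S₀ h.le)) ≫ CommRingCat.ofHom (bF (s F')) =
      CommRingCat.ofHom (bF (s F)) ≫ CommRingCat.ofHom (tr _ _ hσ s h)
    rw [← CommRingCat.ofHom_comp, ← CommRingCat.ofHom_comp, tr_bF]

omit [IsDomain V] [IsLocalRing V] in
theorem g_sp {F : Finset V} (s : Stage (XF f φ j S₀ hS₀) (XC f φ j S₀ hS₀) σ F)
    (σ' : Spec (CommRingCat.of B) ⟶ pullback f (spm φ ≫ j)) (hσσ : σ' = σ) :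
    spm s.g ≫ sp s = σ' ≫ PF f φ j S₀ hS₀ F := by
  subst hσσ
  exact s.hg

omit [IsDomain V] [IsLocalRing V] in
theorem g_bF {F : Finset V} (s : Stage (XF f φ j S₀ hS₀) (XC f φ j S₀ hS₀) σ F)
    (σ' : Spec (CommRingCat.of B) ⟶ pullback f (spm φ ≫ j)) (hσσ : σ' = σ) (β : V →+* B)
    (hβ : σ' ≫ pullback.snd f (spm φ ≫ j) = spm β) : s.g.comp (bF s) = β.comp (O (cl S₀ F)).subtype := by
  rw [← spm_inj, spm_comp, spm_comp, spm_bF, ← Category.assoc (spm s.g), g_sp s σ' hσσ, ← hβ, Category.assoc,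
    PF_snd, Category.assoc]

end Main

section Final

/-- Closed points. -/
theorem spm_closedPoint {R R' : Type u} [CommRing R] [IsLocalRing R] [CommRing R'] [IsLocalRing R'] (g : R →+* R')
    [IsLocalHom g] : (spm g) (closedPoint R') = closedPoint R := IsLocalRing.comap_closedPoint g

theorem nc_of_aic {n : ℕ} {X S : Scheme.{u}} {f : X ⟶ S} {x : X} (h : LApAt n f x)
    {V B : Type u} [CommRing V] [IsDomain V] [IsLocalRing V] [CommRing B] [IsLocalRing B]
    (aic : ∀ p : V[X], p.Monic → 0 < p.natDegree → ∃ x : V, p.IsRoot x) (hn : IsUnit (n : V))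
    {E : Type u} [CommRing E] [Algebra.FiniteType ℤ E] (φ : E →+* V) (j : Spec (CommRingCat.of E) ⟶ S)
    (σ : Spec (CommRingCat.of B) ⟶ pullback f (spm φ ≫ j)) (hσ : IsStrictLoc σ)
    (hx : (σ ≫ pullback.fst f (spm φ ≫ j)) (closedPoint B) = x)
    (β : V →+* B) [IsLocalHom β] (hβ : σ ≫ pullback.snd f (spm φ ≫ j) = spm β)
    (Ω : Type u) [Field Ω] [Algebra V Ω] [IsFractionRing V Ω] :
    NC n (pullback (spm β) (spm (algebraMap V Ω))) := by
  obtain ⟨S₀, hS₀⟩ := exists_gens φ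
  have hσ' : IsStrictLoc (X := (XC f φ j S₀ hS₀).pt) σ := hσ
  let s : ∀ F, Stage (XF f φ j S₀ hS₀) (XC f φ j S₀ hS₀) σ F := fun F =>
    Classical.choice (exists_stage _ _ hσ' F)
  obtain ⟨hXC⟩ := nonempty_isLimit_XC f φ j S₀ hS₀
  obtain ⟨hR⟩ := isColimit_system (D := XF f φ j S₀ hS₀) hXC hσ' s
  obtain ⟨hO⟩ := nonempty_isColimit_O S₀
  obtain ⟨hL⟩ := nonempty_isColimit_L S₀ Ω
  let b : PullbackLim.specSys (system _ _ hσ' s) ⟶ PullbackLim.specSys (Osys S₀) :=
    Functor.whiskerRight (NatTrans.op (bsys hσ' s)) Scheme.Spec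
  let l : PullbackLim.specSys (Lsys S₀ Ω) ⟶ PullbackLim.specSys (Osys S₀) :=
    Functor.whiskerRight (NatTrans.op (toLsys S₀ Ω)) Scheme.Spec
  let cP := PullbackLim.specCone _ (systemCocone _ _ hσ' s)
  let cQ := PullbackLim.specCone _ (Lcocone S₀ Ω)
  let cW := PullbackLim.specCone _ (Ococone S₀)
  let p : cP.pt ⟶ cW.pt := spm β
  let q : cQ.pt ⟶ cW.pt := spm (algebraMap V Ω)
  have hp : ∀ a, p ≫ cW.π.app a = cP.π.app a ≫ b.app a := by
    intro a
    change spm β ≫ spm (O (cl S₀ a.unop)).subtype = spm (s a.unop).g ≫ spm (bF (s a.unop))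
    rw [← spm_comp, ← spm_comp, g_bF (s a.unop) σ rfl β hβ]
  have hq : ∀ a, q ≫ cW.π.app a = cQ.π.app a ≫ l.app a := by
    intro a
    change spm (algebraMap V Ω) ≫ spm (O (cl S₀ a.unop)).subtype =
      spm (L Ω (cl S₀ a.unop)).subtype ≫ spm (toL Ω (cl S₀ a.unop))
    rw [← spm_comp, ← spm_comp]
    rfl
  have hlim := TripleLim.isLimitCone b l p q hp hq (PullbackLim.isLimitSpecCone _ _ hR)
    (PullbackLim.isLimitSpecCone _ _ hL) (PullbackLim.isLimitSpecCone _ _ hO)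
  have hobj : ∀ a, IsAffine ((TripleLim.sys b l).obj a) := fun a => by
    change IsAffine (pullback (spm (bF (s a.unop))) (spm (toL Ω (cl S₀ a.unop))))
    infer_instance
  have hmap : ∀ (a a' : (Finset V)ᵒᵖ) (h : a ⟶ a'), IsAffineHom ((TripleLim.sys b l).map h) :=
    fun a a' h => inferInstance
  have key : ∀ a, NC n ((TripleLim.sys b l).obj a) := by
    intro a
    change NC n (pullback (spm (bF (s a.unop))) (spm (toL Ω (cl S₀ a.unop))))
    let _ := (toL Ω (cl S₀ a.unop)).toAlgebra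
    have i1 : IsFractionRing (O (cl S₀ a.unop)) (L Ω (cl S₀ a.unop)) := isFractionRing Ω (cl S₀ a.unop)
    have hloc : IsLocalHom (bF (s a.unop)) := by
      have h1 : IsLocalHom ((s a.unop).g.comp (bF (s a.unop))) := by
        rw [g_bF (s a.unop) σ rfl β hβ]
        infer_instance
      exact isLocalHom_of_comp (bF (s a.unop)) (s a.unop).g
    refine h (O (cl S₀ a.unop)) (s a.unop).R (tp aic _ (cl_fg S₀ a.unop)) ?_
      (spm (φF φ S₀ hS₀ a.unop) ≫ j) (sp (s a.unop)) (s a.unop).hp ?_ (bF (s a.unop)) hloc (spm_bF _).symm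
      (L Ω (cl S₀ a.unop))
    · apply isUnit_of_isUnit_val
      have h1 : (((n : O (cl S₀ a.unop)) : V)) = n := map_natCast (O (cl S₀ a.unop)).subtype n
      rw [h1]
      exact hn
    · have h1 := (s a.unop).gl
      rw [← spm_closedPoint (s a.unop).g, ← Scheme.Hom.comp_apply, ← Category.assoc, g_sp (s a.unop) σ rfl,
        Category.assoc, PF_fst, hx]
  exact nc_of_isLimit hlim n key

end Final

end K557.LimAic
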