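import Groth.Agent.EtAcyc.K168.AsphDef
import Groth.Agent.Etcore.FGLim
import Mathlib.RingTheory.Localization.Integral

/-!
# An absolutely integrally closed local domain is the directed union of test rings

`V` local domain in which every monic polynomial has a root, `C` a subring: `O C` is the ring of all `a / s` with `a`
and `s` integral over `C`, `s` a unit of `V`; `L C Ω` its field of fractions inside `Ω = Frac V`.
* `tp`: `TP (O C)` for `C` finitely generated;
* `exists_mem_O`, `exists_mem_L`: the unions are `V` and `Ω`.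
-/

set_option autoImplicit false
universe u

open CategoryTheory CategoryTheory.Limits AlgebraicGeometry IsLocalRing Polynomial

namespace K557.TPUnion

open K168.AsphDef

variable {V : Type u} [CommRing V]

/-- all `a / s`, `a` and `s` integral over `C`, `s` a unit of `V`. -/
def O (C : Subring V) : Subring V where
  carrier := {y | ∃ s a : V, IsIntegral C s ∧ IsIntegral C a ∧ IsUnit s ∧ s * y = a}
  mul_mem' := by
    rintro x y ⟨s, a, hs, ha, hu, h⟩ ⟨s', a', hs', ha', hu', h'⟩
    exact ⟨s * s', a * a', hs.mul hs', ha.mul ha', hu.mul hu', by rw [← h, ← h']; ring⟩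
  one_mem' := ⟨1, 1, isIntegral_one, isIntegral_one, isUnit_one, mul_one _⟩
  add_mem' := by
    rintro x y ⟨s, a, hs, ha, hu, h⟩ ⟨s', a', hs', ha', hu', h'⟩
    exact ⟨s * s', s' * a + s * a', hs.mul hs', (hs'.mul ha).add (hs.mul ha'), hu.mul hu', by
      rw [← h, ← h']; ring⟩
  zero_mem' := ⟨1, 0, isIntegral_one, isIntegral_zero, isUnit_one, mul_zero _⟩
  neg_mem' := by
    rintro x ⟨s, a, hs, ha, hu, h⟩
    exact ⟨s, -a, hs, ha.neg, hu, by rw [← h]; ring⟩

theorem mem_O {C : Subring V} {y : V} :
    y ∈ O C ↔ ∃ s a : V, IsIntegral C s ∧ IsIntegral C a ∧ IsUnit s ∧ s * y = a := Iff.rfl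

theorem mem_O_of_isIntegral {C : Subring V} {y : V} (hy : IsIntegral C y) : y ∈ O C :=
  ⟨1, y, isIntegral_one, hy, isUnit_one, one_mul _⟩

theorem le_O (C : Subring V) : C ≤ O C := fun y hy =>
  mem_O_of_isIntegral (isIntegral_algebraMap (R := C) (A := V) (x := ⟨y, hy⟩))

theorem isIntegral_mono {C C' : Subring V} (h : C ≤ C') {y : V} (hy : IsIntegral C y) : IsIntegral C' y := by
  obtain ⟨p, hp, hpy⟩ := hy
  refine ⟨p.map (Subring.inclusion h), hp.map _, ?_⟩
  rw [eval₂_map]
  exact hpy

theorem O_mono {C C' : Subring V} (h : C ≤ C') : O C ≤ O C' := by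
  rintro y ⟨s, a, hs, ha, hu, e⟩
  exact ⟨s, a, isIntegral_mono h hs, isIntegral_mono h ha, hu, e⟩

theorem isUnit_of_isUnit_val {C : Subring V} (y : O C) (hy : IsUnit (y : V)) : IsUnit y := by
  obtain ⟨s, a, hs, ha, hu, e⟩ := y.2
  obtain ⟨z, hz⟩ := hy.exists_right_inv
  have hau : IsUnit a := by rw [← e]; exact hu.mul hy
  have hz' : z ∈ O C := ⟨a, s, ha, hs, hau, by rw [← e, mul_assoc, hz, mul_one]⟩
  exact IsUnit.of_mul_eq_one ⟨z, hz'⟩ (Subtype.ext hz)

instance isLocalHom_subtype (C : Subring V) : IsLocalHom (O C).subtype where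
  map_nonunit y hy := isUnit_of_isUnit_val y hy

instance isLocalRing_O [IsLocalRing V] (C : Subring V) : IsLocalRing (O C) :=
  RingHom.domain_isLocalRing (O C).subtype

theorem isLocalHom_inclusion {C C' : Subring V} (h : O C ≤ O C') : IsLocalHom (Subring.inclusion h) := by
  have : IsLocalHom ((O C').subtype.comp (Subring.inclusion h)) := isLocalHom_subtype C
  exact isLocalHom_of_comp (Subring.inclusion h) (O C').subtype

/-- `O C` is integrally closed in `V`. -/
theorem mem_O_of_isIntegral_O {C : Subring V} {x : V} (hx : IsIntegral (O C) x) : x ∈ O C := by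
  -- clear denominators
  classical
  obtain ⟨p, hp, hpx⟩ := hx
  choose s a hs ha hu e using fun i : ℕ => (p.coeff i).2
  let t : V := ∏ i ∈ p.support, s i
  have ht : IsIntegral C t := IsIntegral.prod _ fun i _ => hs i
  have htu : IsUnit t := IsUnit.prod_iff.2 fun i _ => hu i
  have hpx' : (p.map (O C).subtype).eval₂ (RingHom.id V) x = 0 := by
    rw [eval₂_map]
    exact hpx
  have h1 : ((p.map (O C).subtype).scaleRoots t).eval₂ (RingHom.id V) (t * x) = 0 := by
    have := scaleRoots_eval₂_eq_zero (RingHom.id V) (s := t) hpx'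
    exact this
  have hmon : (p.map (O C).subtype).Monic := hp.map _
  -- coefficients of the scaled polynomial are integral over `C`
  have hcoef : ∀ i, IsIntegral C (((p.map (O C).subtype).scaleRoots t).coeff i) := by
    intro i
    rw [coeff_scaleRoots, coeff_map]
    by_cases hi : i < (p.map (O C).subtype).natDegree
    · by_cases hc : p.coeff i = 0
      · rw [hc, map_zero, zero_mul]
        exact isIntegral_zero
      · have hmem : i ∈ p.support := mem_support_iff.2 hc
        have h2 : (O C).subtype (p.coeff i) * t = a i * ∏ j ∈ p.support.erase i, s j := by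
          change (p.coeff i : V) * ∏ j ∈ p.support, s j = _
          rw [← Finset.mul_prod_erase _ _ hmem, ← e i]
          ring
        obtain ⟨m, hm⟩ : ∃ m, (p.map (O C).subtype).natDegree - i = m + 1 :=
          ⟨(p.map (O C).subtype).natDegree - i - 1, by omega⟩
        rw [hm, pow_succ', ← mul_assoc, h2]
        exact ((ha i).mul (IsIntegral.prod _ fun j _ => hs j)).mul (ht.pow _)
    · rcases eq_or_lt_of_le (not_lt.1 hi) with h | h
      · rw [← h, Nat.sub_self, pow_zero, mul_one]
        have h3 : (O C).subtype (p.coeff (p.map (O C).subtype).natDegree) = 1 := by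
          rw [← coeff_map]
          exact hmon.coeff_natDegree
        rw [h3]
        exact isIntegral_one
      · have h3 : (O C).subtype (p.coeff i) = 0 := by
          rw [← coeff_map]
          exact coeff_eq_zero_of_natDegree_lt h
        rw [h3, zero_mul]
        exact isIntegral_zero
  have hint : IsIntegral (integralClosure C V) (t * x) := by
    have hmon' : ((p.map (O C).subtype).scaleRoots t).Monic := (monic_scaleRoots_iff t).2 hmon
    obtain ⟨q, hq, -, hqm⟩ := lifts_and_natDegree_eq_and_monic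
      (f := algebraMap (integralClosure C V) V)
      (p := (p.map (O C).subtype).scaleRoots t) ((lifts_iff_coeff_lifts _).2 fun i => ⟨⟨_, hcoef i⟩, rfl⟩) hmon'
    refine ⟨q, hqm, ?_⟩
    rw [← eval_map, hq]
    simpa [eval₂_id] using h1
  have hint' : IsIntegral C (t * x) := isIntegral_trans (R := C) (A := integralClosure C V) _ hint
  exact ⟨t, t * x, ht, hint', htu, rfl⟩

/-- The test rings in `V`. -/
theorem tp [IsDomain V] [IsLocalRing V] (aic : ∀ p : V[X], p.Monic → 0 < p.natDegree → ∃ x : V, p.IsRoot x)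
    (C : Subring V) (hC : ∃ F : Set V, F.Finite ∧ Subring.closure F = C) : TP (O C) where
  isDomain := inferInstance
  isLocal := inferInstance
  aic := by
    intro p hp hd
    have hm := hp.map (O C).subtype
    obtain ⟨x, hx⟩ := aic (p.map (O C).subtype) hm (by
      rw [hp.natDegree_map]
      exact hd)
    have hx' : IsIntegral (O C) x := by
      refine ⟨p, hp, ?_⟩
      have : (p.map (O C).subtype).eval x = 0 := hx
      rw [eval_map] at this
      exact this
    refine ⟨⟨x, mem_O_of_isIntegral_O hx'⟩, ?_⟩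
    apply Subtype.val_injective
    have h2 : (O C).subtype (p.eval ⟨x, mem_O_of_isIntegral_O hx'⟩) = (p.map (O C).subtype).eval x := by
      rw [← eval₂_at_apply, eval_map]
      rfl
    have h3 : (p.map (O C).subtype).eval x = 0 := hx
    rw [h3] at h2
    exact h2
  model := by
    refine ⟨C.comap (O C).subtype, ?_, ?_⟩
    · obtain ⟨F, hF, hFC⟩ := hC
      let e : C →+* C.comap (O C).subtype :=
        { toFun := fun y => ⟨⟨y.1, le_O C y.2⟩, y.2⟩
          map_one' := rfl
          map_mul' := fun _ _ => rfl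
          map_zero' := rfl
          map_add' := fun _ _ => rfl }
      have he : Function.Surjective e := fun y => ⟨⟨y.1.1, y.2⟩, rfl⟩
      have h1 : Algebra.FiniteType ℤ C := by
        refine ⟨⟨(hF.preimage (Subtype.val_injective.injOn (s := Subtype.val ⁻¹' F))).toFinset, ?_⟩⟩
        rw [Set.Finite.coe_toFinset, eq_top_iff]
        rintro ⟨y, hy⟩ -
        have hy' : y ∈ Subring.closure F := by rw [hFC]; exact hy
        have key : ∀ z (hz : z ∈ Subring.closure F) (hz' : z ∈ C),
            (⟨z, hz'⟩ : C) ∈ Algebra.adjoin ℤ (Subtype.val ⁻¹' F : Set C) := by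
          intro z hz
          induction hz using Subring.closure_induction with
          | mem x hx => exact fun _ => Algebra.subset_adjoin hx
          | zero => exact fun _ => zero_mem _
          | one => exact fun _ => one_mem _
          | add x y hx hy ihx ihy =>
            intro h
            exact add_mem (ihx (hFC ▸ hx)) (ihy (hFC ▸ hy))
          | neg x hx ih =>
            intro h
            exact neg_mem (ih (hFC ▸ hx))
          | mul x y hx hy ihx ihy =>
            intro h
            exact mul_mem (ihx (hFC ▸ hx)) (ihy (hFC ▸ hy))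
        exact key y hy' hy
      exact Algebra.FiniteType.of_surjective (R := ℤ) (A := C) (B := C.comap (O C).subtype)
        (e.toIntAlgHom) he
    · intro x
      obtain ⟨s, a, hs, ha, hu, e⟩ := x.2
      have hint : ∀ y : V, (hy : IsIntegral C y) → IsIntegral (C.comap (O C).subtype)
          (⟨y, mem_O_of_isIntegral hy⟩ : O C) := by
        rintro y ⟨q, hq, hqy⟩
        let i : C →+* C.comap (O C).subtype :=
          { toFun := fun y => ⟨⟨y.1, le_O C y.2⟩, y.2⟩
            map_one' := rfl
            map_mul' := fun _ _ => rfl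
            map_zero' := rfl
            map_add' := fun _ _ => rfl }
        refine ⟨q.map i, hq.map _, ?_⟩
        apply Subtype.val_injective
        change (O C).subtype _ = 0
        rw [eval₂_map, hom_eval₂]
        exact hqy
      exact ⟨⟨s, mem_O_of_isIntegral hs⟩, ⟨a, mem_O_of_isIntegral ha⟩, hint s hs, hint a ha,
        isUnit_of_isUnit_val _ hu, Subtype.ext e⟩

section Frac

variable (Ω : Type u) [Field Ω] [Algebra V Ω]

/-- The fraction field of `O C` in `Ω`. -/
def L [IsDomain V] [FaithfulSMul V Ω] (C : Subring V) : Subfield Ω where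
  carrier := {y | ∃ a b : V, a ∈ O C ∧ b ∈ O C ∧ b ≠ 0 ∧ algebraMap V Ω b * y = algebraMap V Ω a}
  mul_mem' := by
    rintro x y ⟨a, b, ha, hb, h0, h⟩ ⟨a', b', ha', hb', h0', h'⟩
    exact ⟨a * a', b * b', mul_mem ha ha', mul_mem hb hb', mul_ne_zero h0 h0', by
      rw [map_mul, map_mul, ← h, ← h']; ring⟩
  one_mem' := ⟨1, 1, one_mem _, one_mem _, one_ne_zero, mul_one _⟩
  add_mem' := by
    rintro x y ⟨a, b, ha, hb, h0, h⟩ ⟨a', b', ha', hb', h0', h'⟩
    exact ⟨b' * a + b * a', b * b', add_mem (mul_mem hb' ha) (mul_mem hb ha'), mul_mem hb hb', mul_ne_zero h0 h0', by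
      rw [map_mul, map_add, map_mul, map_mul, ← h, ← h']; ring⟩
  zero_mem' := ⟨0, 1, zero_mem _, one_mem _, one_ne_zero, by rw [mul_zero, map_zero]⟩
  neg_mem' := by
    rintro x ⟨a, b, ha, hb, h0, h⟩
    exact ⟨-a, b, neg_mem ha, hb, h0, by rw [map_neg, ← h]; ring⟩
  inv_mem' := by
    rintro x ⟨a, b, ha, hb, h0, h⟩
    by_cases hx : x = 0
    · subst hx
      exact ⟨0, 1, zero_mem _, one_mem _, one_ne_zero, by rw [inv_zero, mul_zero, map_zero]⟩
    · have hb' : algebraMap V Ω b ≠ 0 := fun h => h0 (FaithfulSMul.algebraMap_injective V Ω (by rw [h, map_zero]))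
      refine ⟨b, a, hb, ha, ?_, ?_⟩
      · rintro rfl
        rw [map_zero] at h
        exact (mul_ne_zero hb' hx) h
      · rw [← h]
        field_simp

variable [IsDomain V] [FaithfulSMul V Ω]

theorem mem_L {C : Subring V} {y : Ω} : y ∈ L Ω C ↔
    ∃ a b : V, a ∈ O C ∧ b ∈ O C ∧ b ≠ 0 ∧ algebraMap V Ω b * y = algebraMap V Ω a := Iff.rfl

theorem L_mono {C C' : Subring V} (h : C ≤ C') : L Ω C ≤ L Ω C' := by
  rintro y ⟨a, b, ha, hb, h0, e⟩
  exact ⟨a, b, O_mono h ha, O_mono h hb, h0, e⟩

/-- The map `O C ⟶ L C`. -/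
def toL (C : Subring V) : O C →+* L Ω C :=
  ((algebraMap V Ω).comp (O C).subtype).codRestrict (L Ω C) fun y =>
    ⟨y, 1, y.2, one_mem _, one_ne_zero, by rw [map_one, one_mul]; rfl⟩

theorem toL_val (C : Subring V) (y : O C) : (toL Ω C y : Ω) = algebraMap V Ω y := rfl

theorem toL_injective (C : Subring V) : Function.Injective (toL Ω C) := fun x y h => by
  apply Subtype.ext
  apply FaithfulSMul.algebraMap_injective V Ω
  exact congrArg Subtype.val h

theorem isFractionRing (C : Subring V) :
    letI := (toL Ω C).toAlgebra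
    IsFractionRing (O C) (L Ω C) := by
  letI := (toL Ω C).toAlgebra
  have h1 : ∀ y : L Ω C, ∃ a b : O C, (b : V) ≠ 0 ∧ toL Ω C b * y = toL Ω C a := by
    rintro ⟨y, a, b, ha, hb, h0, e⟩
    exact ⟨⟨a, ha⟩, ⟨b, hb⟩, h0, Subtype.ext e⟩
  refine ⟨?_, ?_, ?_⟩
  · rintro ⟨y, hy⟩
    refine IsUnit.mk0 _ ?_
    intro h
    exact nonZeroDivisors.ne_zero hy (toL_injective Ω C (by rw [map_zero]; exact h))
  · intro z
    obtain ⟨a, b, h0, e⟩ := h1 z
    have hb : b ∈ nonZeroDivisors (O C) := mem_nonZeroDivisors_of_ne_zero fun h => h0 (by rw [h]; rfl)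
    exact ⟨(a, ⟨b, hb⟩), by rw [mul_comm]; exact e⟩
  · intro x y h
    exact ⟨1, by rw [toL_injective Ω C h]⟩

end Frac

section Union

variable (S₀ : Finset V)

/-- The subring generated by a finite set and `S₀`. -/
def cl (F : Finset V) : Subring V := Subring.closure ((F : Set V) ∪ (S₀ : Set V))

theorem cl_mono {F F' : Finset V} (h : F ≤ F') : cl S₀ F ≤ cl S₀ F' :=
  Subring.closure_mono (Set.union_subset_union_left _ (by exact_mod_cast h))

theorem mem_cl {F : Finset V} {x : V} (h : x ∈ F) : x ∈ cl S₀ F :=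
  Subring.subset_closure (Or.inl h)

theorem base_le_cl (F : Finset V) : Subring.closure (S₀ : Set V) ≤ cl S₀ F :=
  Subring.closure_mono Set.subset_union_right

theorem cl_fg (F : Finset V) : ∃ T : Set V, T.Finite ∧ Subring.closure T = cl S₀ F :=
  ⟨_, (F.finite_toSet.union S₀.finite_toSet), rfl⟩

theorem exists_mem_O (x : V) : ∃ F : Finset V, x ∈ O (cl S₀ F) :=
  ⟨{x}, le_O _ (mem_cl S₀ (Finset.mem_singleton_self x))⟩

theorem exists_mem_L (Ω : Type u) [Field Ω] [Algebra V Ω] [IsDomain V] [IsFractionRing V Ω] (x : Ω) :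
    ∃ F : Finset V, x ∈ L Ω (cl S₀ F) := by
  classical
  obtain ⟨a, b, hb, rfl⟩ := IsFractionRing.div_surjective (A := V) x
  refine ⟨{a, b}, a, b, le_O _ (mem_cl S₀ (by simp)), le_O _ (mem_cl S₀ (by simp)), nonZeroDivisors.ne_zero hb, ?_⟩
  have : algebraMap V Ω b ≠ 0 := fun h =>
    nonZeroDivisors.ne_zero hb (IsFractionRing.injective V Ω (by rw [h, map_zero]))
  field_simp

end Union

end K557.TPUnion
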